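import Cfsg.Agent.PGroups.AltEightSylow.Embed

/-!
The action of the normaliser of the elementary subgroup of order 16 on its labels, and the possible sets of
conjugates of the central involution in it.
-/

set_option autoImplicit false
set_option linter.style.haveILetI false

namespace Cfsg.Agent.PGroups.AltEightSylow

open Subgroup PGroups.SmallExtraspecial

variable {G : Type*} [Group G]

/-- The five orbits of the model on the elementary subgroup, apart from the central involution. -/
def eCls : List ℕ := [(1 <<< 1) + (1 <<< 4), (1 <<< 10) + (1 <<< 15), (1 <<< 11) + (1 <<< 14),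
  (1 <<< 2) + (1 <<< 3) + (1 <<< 8) + (1 <<< 12), (1 <<< 6) + (1 <<< 7) + (1 <<< 9) + (1 <<< 13)]

/-- The union of the orbit of `z` and of those selected by `k`. -/
def oMask (k : ℕ) : ℕ :=
  32 + ((List.range 5).map fun i => bif k.testBit i then eCls.getD i 0 else 0).sum

/-- The selections compatible with a transitive linear group. -/
def okSel : List ℕ := [0, 1, 2, 4, 7, 8, 11, 13, 14, 16, 19, 21, 22, 31]

/-- The number of lines through a point inside a set. -/
def lineCount (m w : ℕ) : ℕ := (List.range 16).countP fun a => m.testBit a && m.testBit (a ^^^ w)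

lemma okSel_spec : ((List.range 32).all fun k => okSel.contains k || (List.range 16).any fun w =>
    (oMask k).testBit w && !(lineCount (oMask k) w == lineCount (oMask k) 5)) = true := by
  decide +kernel

lemma oMask_bit : ((List.range 32).all fun k => (oMask k).testBit 5 && !(oMask k).testBit 0 &&
    (List.range 5).all fun i => (List.range 16).all fun a =>
      !((eCls.getD i 0).testBit a) || ((oMask k).testBit a == k.testBit i)) = true := by
  decide +kernel

lemma eCls_cover : ((List.range 16).all fun a => a == 0 || a == 5 ||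
    (List.range 5).any fun i => (eCls.getD i 0).testBit a) = true := by
  decide +kernel

lemma eCls_orbit : ((List.range 5).all fun i => (List.range 16).all fun a => (List.range 16).all fun b =>
    !((eCls.getD i 0).testBit a && (eCls.getD i 0).testBit b) ||
      [0, 16, 32, 48].any fun g => conjN g a == b) = true := by
  decide +kernel

namespace Emb

variable (d : Emb G)

/-- The element of `E` with a label. -/
def el (i : Fin 16) : G := d.hom (M64.of i)

lemma el_mem (i : Fin 16) : d.el i ∈ d.E := by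
  rw [el, hom_mem_E, M64.of_lab_val (by omega)]; exact i.2

lemma el_inj : Function.Injective d.el := fun i j h => by
  have h2 := congrArg (fun x : M64 => (x.lab : ℕ)) (d.inj h)
  simp only [M64.of_lab_val (show (i : ℕ) < 64 by omega), M64.of_lab_val (show (j : ℕ) < 64 by omega)] at h2
  exact Fin.ext h2

lemma exists_el {a : G} (ha : a ∈ d.E) : ∃ i, d.el i = a := by
  obtain ⟨x, hx, rfl⟩ := ha
  exact ⟨⟨x.lab, M64.mem_subE.1 hx⟩, congrArg d.hom (M64.of_lab x)⟩

lemma el_five : d.el 5 = d.z := rfl

lemma el_zero : d.el 0 = 1 := map_one d.hom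

lemma el_mul (i j : Fin 16) : d.el i * d.el j = d.el ⟨i.val ^^^ j.val, Nat.xor_lt_two_pow (n := 4) i.2 j.2⟩ := by
  rw [el, el, ← map_mul]
  refine congrArg d.hom (M64.ext' ?_)
  rw [M64.mul_lab, M64.of_lab_val (show (i : ℕ) < 64 by omega), M64.of_lab_val (show (j : ℕ) < 64 by omega),
    M64.of_lab_val (show (i.val ^^^ j.val) < 64 by
      have := Nat.xor_lt_two_pow (n := 4) i.2 j.2; omega)]
  rw [mulN, Nat.div_eq_of_lt i.2, Nat.div_eq_of_lt j.2, Nat.mod_eq_of_lt i.2, Nat.mod_eq_of_lt j.2]
  simp [actN]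

/-- The action on labels of an element normalising `E`. -/
noncomputable def act (n : normalizer (d.E : Set G)) (i : Fin 16) : Fin 16 :=
  (d.exists_el ((mem_normalizer_iff.1 n.2 _).1 (d.el_mem i))).choose

lemma act_spec (n : normalizer (d.E : Set G)) (i : Fin 16) :
    d.el (d.act n i) = (n : G) * d.el i * (n : G)⁻¹ :=
  (d.exists_el ((mem_normalizer_iff.1 n.2 _).1 (d.el_mem i))).choose_spec

lemma act_mul (n m : normalizer (d.E : Set G)) (i : Fin 16) : d.act (n * m) i = d.act n (d.act m i) := by
  apply d.el_inj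
  rw [act_spec, act_spec, act_spec, Subgroup.coe_mul]
  group

lemma act_one (i : Fin 16) : d.act 1 i = i := d.el_inj (by rw [act_spec]; simp)

lemma act_inj (n : normalizer (d.E : Set G)) : Function.Injective (d.act n) := fun i j h => by
  have := congrArg d.el h
  rw [act_spec, act_spec] at this
  exact d.el_inj (conj_inj this)

lemma act_xor (n : normalizer (d.E : Set G)) (i j : Fin 16) :
    (d.act n ⟨i.val ^^^ j.val, Nat.xor_lt_two_pow (n := 4) i.2 j.2⟩).val =
      (d.act n i).val ^^^ (d.act n j).val := by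
  have h : d.el (d.act n ⟨i.val ^^^ j.val, Nat.xor_lt_two_pow (n := 4) i.2 j.2⟩) =
      d.el (d.act n i) * d.el (d.act n j) := by
    rw [act_spec, act_spec, act_spec, ← el_mul]; group
  rw [el_mul] at h
  exact congrArg Fin.val (d.el_inj h)

lemma el_conj (g : M64) (i j : Fin 16) (h : conjN g.lab i = j) :
    d.hom g * d.el i * (d.hom g)⁻¹ = d.el j := by
  rw [el, el, ← map_inv, ← map_mul, ← map_mul]
  refine congrArg d.hom (M64.ext' ?_)
  rw [M64.conj_lab, M64.of_lab_val (show (i : ℕ) < 64 by omega), M64.of_lab_val (show (j : ℕ) < 64 by omega), h]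

variable [Finite G]

/-- The conjugates of `z` in `E`. -/
theorem exists_sel : ∃ k ∈ okSel, k < 32 ∧ ∀ i : Fin 16, IsConj d.z (d.el i) ↔ (oMask k).testBit i.val = true := by
  classical
  have hrep : ∀ i < 5, ∃ a : Fin 16, (eCls.getD i 0).testBit a.val = true := by
    intro i hi
    interval_cases i
    exacts [⟨1, rfl⟩, ⟨10, rfl⟩, ⟨11, rfl⟩, ⟨2, rfl⟩, ⟨6, rfl⟩]
  -- one bit for each orbit
  let b : Fin 5 → Bool := fun i => decide (∃ a : Fin 16, (eCls.getD i.val 0).testBit a.val = true ∧ IsConj d.z (d.el a))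
  obtain ⟨k, hk32, hkb⟩ : ∃ k < 32, ∀ i : Fin 5, k.testBit i.val = b i := by
    have key : ∀ b0 b1 b2 b3 b4 : Bool, ∃ k < 32, k.testBit 0 = b0 ∧ k.testBit 1 = b1 ∧ k.testBit 2 = b2 ∧
        k.testBit 3 = b3 ∧ k.testBit 4 = b4 := by decide +kernel
    obtain ⟨k, hk, h0, h1, h2, h3, h4⟩ := key (b 0) (b 1) (b 2) (b 3) (b 4)
    refine ⟨k, hk, fun i => ?_⟩
    fin_cases i <;> assumption
  have hm := oMask_bit
  simp only [List.all_eq_true, List.mem_range, Bool.and_eq_true, Bool.or_eq_true, Bool.not_eq_true',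
    beq_iff_eq] at hm
  have horb := eCls_orbit
  simp only [List.all_eq_true, List.mem_range, Bool.or_eq_true, Bool.not_eq_true', Bool.and_eq_false_iff,
    List.any_eq_true, beq_iff_eq] at horb
  have hiff : ∀ a : Fin 16, IsConj d.z (d.el a) ↔ (oMask k).testBit a.val = true := by
    intro a
    have hc := eCls_cover
    simp only [List.all_eq_true, List.mem_range, Bool.or_eq_true, List.any_eq_true, beq_iff_eq] at hc
    rcases hc a.val a.2 with (h | h) | ⟨i, hi, hia⟩
    · rw [show a = (0 : Fin 16) from Fin.ext h, el_zero, show ((0 : Fin 16) : ℕ) = 0 from rfl, (hm k hk32).1.2]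
      refine iff_of_false (fun hz => ?_) Bool.false_ne_true
      obtain ⟨c, hc⟩ := isConj_iff.1 hz
      exact (two_iff.1 d.z_order).2 (conj_eq_one_iff.1 hc)
    · rw [show a = (5 : Fin 16) from Fin.ext h, el_five, show ((5 : Fin 16) : ℕ) = 5 from rfl, (hm k hk32).1.1]
      exact iff_of_true (IsConj.refl _) rfl
    · rw [((hm k hk32).2 i hi a.val a.2).resolve_left (by rw [hia]; exact Bool.noConfusion), hkb ⟨i, hi⟩]
      simp only [b, decide_eq_true_eq]
      refine ⟨fun h => ⟨a, hia, h⟩, fun ⟨c, hci, hcz⟩ => hcz.trans ?_⟩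
      rcases horb i hi c.val c.2 a.val a.2 with (h | h) | ⟨g, hg, hge⟩
      · rw [hci] at h; exact Bool.noConfusion h
      · rw [hia] at h; exact Bool.noConfusion h
      · have hg64 : g < 64 := by simp at hg; omega
        exact isConj_iff.2 ⟨d.hom (M64.of g), d.el_conj _ c a (by rw [M64.of_lab_val hg64, hge])⟩
  refine ⟨k, ?_, hk32, hiff⟩
  by_contra hkn
  have hok := okSel_spec
  simp only [List.all_eq_true, List.mem_range, Bool.or_eq_true, List.contains_iff_mem, List.any_eq_true,
    Bool.and_eq_true, Bool.not_eq_true', beq_eq_false_iff_ne] at hok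
  obtain ⟨w, hw, hwO, hne⟩ := (hok k hk32).resolve_left hkn
  obtain ⟨g, hg⟩ := isConj_iff.1 ((hiff ⟨w, hw⟩).2 hwO)
  obtain ⟨n, -, hn, hnz⟩ := d.fusion_E (le_top : d.E ≤ ⊤) (mem_top g) d.z_mem (by rw [hg]; exact d.el_mem _)
  rw [hg] at hnz
  set n' : normalizer (d.E : Set G) := ⟨n, hn⟩ with hn'
  have h5 : d.act n' 5 = ⟨w, hw⟩ := d.el_inj (by rw [act_spec, el_five, hn']; exact hnz)
  have hpres : ∀ a : Fin 16, (oMask k).testBit (d.act n' a).val = (oMask k).testBit a.val := by
    intro a
    rw [Bool.eq_iff_iff, ← hiff, ← hiff, act_spec]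
    exact ⟨fun h => h.trans (isConj_iff.2 ⟨(n' : G)⁻¹, by group⟩), fun h => h.trans (isConj_iff.2 ⟨n', rfl⟩)⟩
  refine hne ?_
  have hcount : ∀ v : Fin 16, lineCount (oMask k) v.val = (Finset.univ.filter fun a : Fin 16 =>
      (oMask k).testBit a.val = true ∧ (oMask k).testBit (a.val ^^^ v.val) = true).card := by
    intro v
    rw [lineCount, List.countP_eq_length_filter, ← List.toFinset_card_of_nodup (List.nodup_range.filter _),
      ← Finset.card_map Fin.valEmbedding]
    congr 1
    ext a
    simp only [List.mem_toFinset, List.mem_filter, List.mem_range, Bool.and_eq_true, Finset.mem_map,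
      Finset.mem_filter, Finset.mem_univ, true_and, Fin.valEmbedding_apply]
    exact ⟨fun ⟨h1, h2⟩ => ⟨⟨a, h1⟩, h2, rfl⟩, fun ⟨c, hc, e⟩ => e ▸ ⟨c.2, hc⟩⟩
  rw [show w = (d.act n' 5).val by rw [h5], show (5 : ℕ) = (5 : Fin 16).val from rfl, hcount, hcount]
  refine (Finset.card_bij (fun a _ => d.act n' a) (fun a ha => ?_) (fun a _ c _ h => d.act_inj n' h)
    (fun c hc => ?_)).symm
  · simp only [Finset.mem_filter, Finset.mem_univ, true_and] at ha ⊢
    rw [hpres, ← d.act_xor n' a 5, hpres]
    exact ha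
  · obtain ⟨a, rfl⟩ := Finite.surjective_of_injective (d.act_inj n') c
    simp only [Finset.mem_filter, Finset.mem_univ, true_and] at hc ⊢
    rw [hpres, ← d.act_xor n' a 5, hpres] at hc
    exact ⟨a, hc, rfl⟩

end Emb

end Cfsg.Agent.PGroups.AltEightSylow
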