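import Cfsg.Agent.PGroups.AltEightSylow.Spec
import Cfsg.Agent.Cores.PCore

/-!
The model in a subgroup containing it and in a quotient by a normal subgroup of odd order; in particular in
the centraliser of the central involution modulo its odd core.
-/

set_option autoImplicit false
set_option linter.style.haveILetI false

namespace Cfsg.Agent.PGroups.AltEightSylow

open Subgroup PGroups.SmallExtraspecial

variable {G : Type*} [Group G]

namespace Emb

/-- The model in a subgroup containing it. -/
def toSub (d : Emb G) (H : Subgroup G) (hle : d.T ≤ H) : Emb H where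
  hom := d.hom.codRestrict H fun x => hle (d.mem_T x)
  inj := fun x y h => d.inj (congrArg Subtype.val h)
  maxl := fun P hP hle' => by
    have hmap : P.map H.subtype = d.T := d.maxl _ (hP.map _) (by
      rintro _ ⟨x, rfl⟩
      exact ⟨⟨d.hom x, hle (d.mem_T x)⟩, hle' ⟨x, rfl⟩, rfl⟩)
    refine le_antisymm (fun p hp => ?_) hle'
    obtain ⟨x, hx⟩ : (p : G) ∈ d.T := hmap ▸ ⟨p, hp, rfl⟩
    exact ⟨x, Subtype.ext hx⟩

lemma toSub_hom (d : Emb G) (H : Subgroup G) (hle : d.T ≤ H) (x : M64) :
    ((d.toSub H hle).hom x : G) = d.hom x := rfl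

variable [Finite G] (d : Emb G)

include d in
/-- The 2-part of the order is 64. -/
lemma two_pow_le {m : ℕ} (h : 2 ^ m ∣ Nat.card G) : m ≤ 6 := by
  haveI : Fact (Nat.Prime 2) := ⟨Nat.prime_two⟩
  obtain ⟨P, hP⟩ := Sylow.exists_subgroup_card_pow_prime 2 h
  obtain ⟨g, hg⟩ := d.exists_conj_le (IsPGroup.of_card hP)
  have hle : P.map (MulAut.conj g).toMonoidHom ≤ d.T := by
    rintro _ ⟨x, hx, rfl⟩; exact hg x hx
  have hc := Subgroup.card_dvd_of_le hle
  rw [card_map_of_injective (MulEquiv.injective (MulAut.conj g)), hP, d.card_T] at hc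
  exact (Nat.pow_le_pow_iff_right (by norm_num)).1 (show 2 ^ m ≤ 2 ^ 6 from Nat.le_of_dvd (by norm_num) hc)

omit [Finite G] in
lemma mem_odd_normal {N : Subgroup G} (hodd : Odd (Nat.card N)) {x : M64} (hx : d.hom x ∈ N) : x = 1 := by
  refine d.inj (Eq.trans ?_ (map_one _).symm)
  rw [← orderOf_eq_one_iff]
  have hN := N.orderOf_dvd_natCard hx
  have hT := d.T.orderOf_dvd_natCard (d.mem_T x)
  rw [d.card_T] at hT
  exact Nat.eq_one_of_dvd_coprimes (Nat.Coprime.pow_left 6 (Nat.coprime_two_left.2 hodd)) hT hN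

/-- The model in a quotient by a normal subgroup of odd order. -/
def quot (N : Subgroup G) [N.Normal] (hodd : Odd (Nat.card N)) : Emb (G ⧸ N) where
  hom := (QuotientGroup.mk' N).comp d.hom
  inj := (injective_iff_map_eq_one _).2 fun x hx =>
    d.mem_odd_normal hodd ((QuotientGroup.eq_one_iff _).1 hx)
  maxl := fun P hP hle => by
    haveI : Fact (Nat.Prime 2) := ⟨Nat.prime_two⟩
    obtain ⟨m, hm⟩ := IsPGroup.iff_card.1 hP
    have h64 : Nat.card ((QuotientGroup.mk' N).comp d.hom).range = 64 := by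
      rw [← Nat.card_congr (MonoidHom.ofInjective ((injective_iff_map_eq_one _).2 fun x hx =>
        d.mem_odd_normal hodd ((QuotientGroup.eq_one_iff _).1 hx))).toEquiv, M64.card_eq]
    refine (Subgroup.eq_of_le_of_card_ge hle ?_).symm
    rw [h64, hm, show (64 : ℕ) = 2 ^ 6 by norm_num]
    refine Nat.pow_le_pow_right (by norm_num) (d.two_pow_le ?_)
    rw [← hm, Subgroup.card_eq_card_quotient_mul_card_subgroup N]
    exact dvd_mul_of_dvd_left (Subgroup.card_subgroup_dvd_card P) _

lemma quot_hom (N : Subgroup G) [N.Normal] (hodd : Odd (Nat.card N)) (x : M64) :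
    (d.quot N hodd).hom x = QuotientGroup.mk' N (d.hom x) := rfl

/-- Involutions of the model which are conjugate modulo a normal subgroup of odd order are conjugate. -/
theorem isConj_of_quot {N : Subgroup G} [N.Normal] (hodd : Odd (Nat.card N)) {x y : M64} (hx : x * x = 1)
    (hy : y * y = 1) (h : IsConj ((d.quot N hodd).hom x) ((d.quot N hodd).hom y)) :
    IsConj (d.hom x) (d.hom y) := by
  obtain ⟨k, hk⟩ := isConj_iff.1 h
  obtain ⟨c, rfl⟩ := QuotientGroup.mk'_surjective N k
  rw [quot_hom, quot_hom, ← map_inv, ← map_mul, ← map_mul] at hk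
  refine (isConj_iff.2 ⟨c, rfl⟩ : IsConj (d.hom x) (c * d.hom x * c⁻¹)).trans ?_
  by_contra hne
  have hsq : c * d.hom x * c⁻¹ * (c * d.hom x * c⁻¹) = 1 := by
    rw [show c * d.hom x * c⁻¹ * (c * d.hom x * c⁻¹) = c * (d.hom x * d.hom x) * c⁻¹ by group,
      ← map_mul, hx, map_one]; group
  have hev := H26.even_orderOf_of_not_isConj hsq (by rw [← map_mul, hy, map_one]) hne
  have hmem : c * d.hom x * c⁻¹ * d.hom y ∈ N := by
    rw [← QuotientGroup.eq_one_iff, ← QuotientGroup.mk'_apply, map_mul, hk, ← map_mul, ← map_mul, hy,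
      map_one, map_one]
  exact (Nat.not_even_iff_odd.2 (hodd.of_dvd_nat (N.orderOf_dvd_natCard hmem))) hev

omit [Finite G] in
lemma T_le_centralizer : d.T ≤ centralizer ({d.z} : Set G) := fun _ ht =>
  mem_centralizer_singleton_iff.2 (d.z_comm ht)

/-- The centraliser of the central involution. -/
abbrev Cz : Subgroup G := centralizer ({d.z} : Set G)

/-- The centraliser of the central involution modulo its odd core. -/
abbrev Kz : Type _ := d.Cz ⧸ Cfsg.oddCore d.Cz

/-- The model in the centraliser of the central involution. -/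
abbrev dC : Emb d.Cz := d.toSub d.Cz d.T_le_centralizer

/-- The model in the centraliser of the central involution modulo its odd core. -/
abbrev dK : Emb d.Kz := d.dC.quot (Cfsg.oddCore d.Cz) Cores.odd_card_oddCore

lemma dK_hom (x : M64) : d.dK.hom x = QuotientGroup.mk' _ (d.dC.hom x) := rfl

lemma dK_z_central (k : d.Kz) : k * d.dK.z = d.dK.z * k := by
  obtain ⟨c, rfl⟩ := QuotientGroup.mk'_surjective _ k
  rw [show d.dK.z = QuotientGroup.mk' _ (d.dC.hom M64.z) from rfl, ← map_mul, ← map_mul]
  exact congrArg _ (Subtype.ext (mem_centralizer_singleton_iff.1 c.2))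

lemma dK_oddCore : Cfsg.oddCore d.Kz = ⊥ := Cores.pPrimeCore_quotient_pPrimeCore

omit [Finite G] in
lemma Cz_isSolvable (hsol : ∀ z : G, z ∈ d.T → (∀ s ∈ d.T, s * z = z * s) → orderOf z = 2 →
    Group.IsSolvable (centralizer ({z} : Set G))) : Group.IsSolvable d.Cz :=
  hsol d.z (d.mem_T _) (fun _ hs => d.z_comm hs) d.z_order

/-- Involutions of the model conjugate in the quotient are conjugate in the centraliser. -/
theorem exists_conj_of_dK {x y : M64} (hx : x * x = 1) (hy : y * y = 1)
    (h : IsConj (d.dK.hom x) (d.dK.hom y)) : ∃ c ∈ d.Cz, c * d.hom x * c⁻¹ = d.hom y := by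
  obtain ⟨c, hc⟩ := isConj_iff.1 (d.dC.isConj_of_quot Cores.odd_card_oddCore hx hy h)
  exact ⟨c, c.2, congrArg Subtype.val hc⟩

end Emb

end Cfsg.Agent.PGroups.AltEightSylow
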