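import Cfsg.Agent.PGroups.AltEightSylow.Model

/-!
The model is a Sylow 2-subgroup of the alternating group of degree eight.
-/

set_option autoImplicit false

namespace Cfsg.Agent.PGroups.AltEightSylow

open Equiv

/-- The generator of a bit of the normal subgroup. -/
def permE (e : ℕ) : Perm (Fin 8) :=
  (bif e.testBit 0 then swap 0 1 * swap 2 3 else 1) * (bif e.testBit 1 then swap 0 2 * swap 1 3 else 1) *
    ((bif e.testBit 2 then swap 4 5 * swap 6 7 else 1) * (bif e.testBit 3 then swap 4 6 * swap 5 7 else 1))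

/-- The complement. -/
def permP (p : ℕ) : Perm (Fin 8) :=
  (bif p.testBit 0 then swap 0 1 * swap 4 5 else 1) *
    (bif p.testBit 1 then swap 0 4 * swap 1 5 * (swap 2 6 * swap 3 7) else 1)

/-- The permutation of a label. -/
def permN (x : ℕ) : Perm (Fin 8) := permE (x % 16) * permP (x / 16)


set_option maxRecDepth 20000 in
lemma permE_mul : ∀ a b : Fin 16, ∀ i : Fin 8, permE (a.val ^^^ b.val) i = permE a (permE b i) := by
  decide +kernel

set_option maxRecDepth 20000 in
lemma permP_mul : ∀ p q : Fin 4, ∀ i : Fin 8, permP (p.val ^^^ q.val) i = permP p (permP q i) := by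
  decide +kernel

set_option maxRecDepth 20000 in
lemma permP_permE : ∀ p : Fin 4, ∀ b : Fin 16, ∀ i : Fin 8,
    permP p (permE b i) = permE (actN p b) (permP p i) := by
  decide +kernel

lemma permN_mul {x y : ℕ} (hx : x < 64) (hy : y < 64) (i : Fin 8) :
    permN (mulN x y) i = permN x (permN y i) := by
  have hp : x / 16 < 4 := by omega
  have hq : y / 16 < 4 := by omega
  have ha : x % 16 < 16 := Nat.mod_lt _ (by norm_num)
  have hb : y % 16 < 16 := Nat.mod_lt _ (by norm_num)
  have hl : x % 16 ^^^ actN (x / 16) (y % 16) < 16 :=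
    Nat.xor_lt_two_pow (n := 4) ha (M64.act_lt hp hb)
  simp only [permN, mulN, Perm.mul_apply]
  rw [Nat.add_mul_mod_self_left, Nat.mod_eq_of_lt hl, Nat.add_mul_div_left _ _ (by norm_num : (0 : ℕ) < 16),
    Nat.div_eq_of_lt hl, zero_add]
  have h1 := permE_mul ⟨_, ha⟩ ⟨_, M64.act_lt hp hb⟩ (permP (x / 16 ^^^ y / 16) i)
  have h2 := permP_permE ⟨_, hp⟩ ⟨_, hb⟩ (permP (y / 16) i)
  have h3 := permP_mul ⟨_, hp⟩ ⟨_, hq⟩ i
  simp only at h1 h2 h3
  rw [h1, h3, h2]

set_option maxRecDepth 20000 in
lemma permN_inj : ((List.range 64).all fun x => x == 0 || !((List.finRange 8).all fun i => permN x i == i)) = true := by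
  decide +kernel

lemma permN_sign (x : ℕ) : Perm.sign (permN x) = 1 := by
  simp only [permN, permE, permP, map_mul]
  cases (x % 16).testBit 0 <;> cases (x % 16).testBit 1 <;> cases (x % 16).testBit 2 <;>
    cases (x % 16).testBit 3 <;> cases (x / 16).testBit 0 <;> cases (x / 16).testBit 1 <;>
    simp

/-- The embedding. -/
def altHom : M64 →* alternatingGroup (Fin 8) where
  toFun x := ⟨permN x.lab, Perm.mem_alternatingGroup.2 (permN_sign x.lab)⟩
  map_one' := Subtype.ext (by decide)
  map_mul' x y := Subtype.ext (Equiv.ext fun i => by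
    show permN (x * y).lab i = permN x.lab (permN y.lab i)
    rw [M64.mul_lab]
    exact permN_mul x.lab.isLt y.lab.isLt i)

lemma altHom_inj : Function.Injective altHom := by
  refine (injective_iff_map_eq_one altHom).2 fun x hx => M64.ext' ?_
  by_contra h0
  have h := permN_inj
  simp only [List.all_eq_true, List.mem_range, Bool.or_eq_true, beq_iff_eq, Bool.not_eq_true'] at h
  rcases h _ x.lab.isLt with h' | h'
  · exact h0 h'
  · rw [List.all_eq_false] at h'
    obtain ⟨i, -, hi⟩ := h'
    refine hi (beq_iff_eq.2 ?_)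
    exact congrArg (fun g : alternatingGroup (Fin 8) => (g : Perm (Fin 8)) i) hx

/-- A Sylow subgroup of the alternating group is a copy of the model. -/
theorem exists_equiv : ∃ P : Sylow 2 (alternatingGroup (Fin 8)), Nonempty (M64 ≃* (P : Subgroup (alternatingGroup (Fin 8)))) := by
  haveI : Fact (Nat.Prime 2) := ⟨Nat.prime_two⟩
  have hc : Nat.card altHom.range = 2 ^ 6 := by
    rw [← Nat.card_congr (MonoidHom.ofInjective altHom_inj).toEquiv, M64.card_eq]; norm_num
  obtain ⟨P, hP⟩ := (IsPGroup.of_card hc).exists_le_sylow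
  refine ⟨P, ⟨(MonoidHom.ofInjective altHom_inj).trans (MulEquiv.subgroupCongr
    (Subgroup.eq_of_le_of_card_ge hP ?_))⟩⟩
  have h20160 : Nat.card (alternatingGroup (Fin 8)) = 20160 := by
    rw [nat_card_alternatingGroup, Nat.card_fin]; rfl
  have hd : Nat.card P ∣ 20160 := h20160 ▸ Subgroup.card_subgroup_dvd_card _
  obtain ⟨k, hk⟩ := P.isPGroup'.exists_card_eq
  rw [hc, hk]
  rw [hk] at hd
  refine Nat.pow_le_pow_right (by norm_num) ?_
  by_contra h7
  exact absurd ((pow_dvd_pow 2 (show 7 ≤ k by omega)).trans hd) (by norm_num)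

end Cfsg.Agent.PGroups.AltEightSylow
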