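import Cfsg.Agent.PGroups.AltEightSylow.FusionFacts
import Cfsg.Agent.PGroups.AltEightSylow.EAct
import Cfsg.Agent.PGroups.AltEightSylow.Quot

/-!
Fusion of the involutions outside the elementary subgroup of order 16.
-/

set_option autoImplicit false
set_option linter.style.haveILetI false

namespace Cfsg.Agent.PGroups.AltEightSylow

open Subgroup PGroups.SmallExtraspecial

variable {G : Type*} [Group G]

namespace Emb

variable (d : Emb G)

/-- The centraliser in the model of an element of the model. -/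
def cT (x : M64) : Subgroup G := (centralizer ({x} : Set M64)).map d.hom

lemma cT_le_T (x : M64) : d.cT x ≤ d.T := map_le_range _ _

lemma mem_cT {x : M64} {a : G} (ha : a ∈ d.T) (h : a * d.hom x = d.hom x * a) : a ∈ d.cT x := by
  obtain ⟨y, rfl⟩ := ha
  rw [← map_mul, ← map_mul] at h
  exact ⟨y, mem_centralizer_singleton_iff.2 (d.inj h), rfl⟩

lemma cT_comm {x : M64} {a : G} (ha : a ∈ d.cT x) : a * d.hom x = d.hom x * a := by
  obtain ⟨y, hy, rfl⟩ := ha
  rw [← map_mul, ← map_mul, mem_centralizer_singleton_iff.1 hy]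

lemma card_cT (x : M64) : Nat.card (d.cT x) = Nat.card (centralizer ({x} : Set M64)) :=
  card_map_of_injective d.inj

lemma z_mem_cT (x : M64) : d.z ∈ d.cT x :=
  ⟨M64.z, mem_centralizer_singleton_iff.2 (M64.z_comm x).symm, rfl⟩

lemma invol_cases {w : G} (hw : w ∈ d.T) (hw2 : w * w = 1) :
    ∃ x : M64, d.hom x = w ∧ x * x = 1 ∧ ((x.lab : ℕ) < 16 ∨ (x.lab : ℕ) ∈ outer) := by
  obtain ⟨x, rfl⟩ := hw
  have hx : x * x = 1 := d.inj (by rw [map_mul, hw2, map_one])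
  exact ⟨x, rfl, hx, M64.invol_lab hx⟩

/-- No conjugate of `a` lies in `E`. -/
def NotE (a : G) : Prop := ∀ g : G, g * a * g⁻¹ ∉ d.E

/-- The conjugates of the central involution in the model lie in `E`. -/
def ZInE : Prop := ∀ w ∈ d.T, IsConj d.z w → w ∈ d.E

variable [Finite G]

/-- If an involution outside `E` has no conjugate in `E`, its centraliser in the model is a Sylow subgroup
of its centraliser. -/
theorem cT_maximal {x : M64} (hx : (x.lab : ℕ) ∈ outer) (hn : d.NotE (d.hom x)) {R : Subgroup G}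
    (hR : IsPGroup 2 R) (hle : d.cT x ≤ R) (hC : R ≤ centralizer ({d.hom x} : Set G)) : R = d.cT x := by
  obtain ⟨g, hg⟩ := d.exists_conj_le hR
  have hxR : d.hom x ∈ R := hle (d.mem_cT (d.mem_T x) rfl)
  obtain ⟨y, hy, hy2, hcase⟩ := d.invol_cases (hg _ hxR) (by
    rw [show g * d.hom x * g⁻¹ * (g * d.hom x * g⁻¹) = g * (d.hom x * d.hom x) * g⁻¹ by group, ← map_mul,
      M64.outer_sq hx, map_one]; group)
  have hyo : (y.lab : ℕ) ∈ outer := hcase.resolve_left fun h => hn g (hy ▸ d.hom_mem_E.2 h)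
  have hsub : R.map (MulAut.conj g).toMonoidHom ≤ d.cT y := by
    rintro _ ⟨r, hr, rfl⟩
    refine d.mem_cT (hg r hr) ?_
    rw [hy]
    exact conj_comm_iff.2 (mem_centralizer_singleton_iff.1 (hC hr))
  refine (Subgroup.eq_of_le_of_card_ge hle ?_).symm
  have hcard : Nat.card (R.map (MulAut.conj g).toMonoidHom) = Nat.card R :=
    card_map_of_injective (MulEquiv.injective (MulAut.conj g))
  rw [d.card_cT, M64.card_cent_outer hx, ← M64.card_cent_outer hyo, ← d.card_cT, ← hcard]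
  exact Subgroup.card_le_of_le hsub

/-- Fusion of involutions having no conjugate in `E` takes place in the centraliser of the central
involution. -/
theorem outer_fused {x x' : M64} (hx : (x.lab : ℕ) ∈ outer) (hx' : (x'.lab : ℕ) ∈ outer)
    (hn : d.NotE (d.hom x')) {g : G} (hg : g * d.hom x * g⁻¹ = d.hom x') :
    ∃ c ∈ d.Cz, c * d.hom x * c⁻¹ = d.hom x' := by
  haveI : Fact (Nat.Prime 2) := ⟨Nat.prime_two⟩
  set C := centralizer ({d.hom x'} : Set G) with hC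
  have hD' : d.cT x' ≤ C := fun a ha => mem_centralizer_singleton_iff.2 (d.cT_comm ha)
  set F := (d.cT x).map (MulAut.conj g).toMonoidHom with hF
  have hFC : F ≤ C := by
    rintro _ ⟨a, ha, rfl⟩
    refine mem_centralizer_singleton_iff.2 ?_
    rw [← hg]
    exact conj_comm_iff.2 (d.cT_comm ha)
  obtain ⟨P, hP⟩ := ((d.isPGroup_T.to_le (d.cT_le_T x')).comap_subtype (K := C)).exists_le_sylow
  obtain ⟨Q, hQ⟩ := (((d.isPGroup_T.to_le (d.cT_le_T x)).map (MulAut.conj g).toMonoidHom).comap_subtype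
    (K := C)).exists_le_sylow
  obtain ⟨c, hc⟩ := MulAction.exists_smul_eq C Q P
  have hPeq : (P : Subgroup C).map C.subtype = d.cT x' :=
    d.cT_maximal hx' hn (P.isPGroup'.map _) (fun a ha => ⟨⟨a, hD' ha⟩, hP ha, rfl⟩) (map_subtype_le _)
  have hmove : ∀ a ∈ d.cT x, (c : G) * g * a * ((c : G) * g)⁻¹ ∈ d.cT x' := by
    intro a ha
    rw [← hPeq, ← hc]
    refine ⟨c * ⟨g * a * g⁻¹, hFC ⟨a, ha, rfl⟩⟩ * c⁻¹,
      smul_mem_pointwise_smul _ (MulAut.conj c) _ (hQ ⟨a, ha, rfl⟩), ?_⟩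
    show (c : G) * (g * a * g⁻¹) * (c : G)⁻¹ = _
    group
  refine ⟨c * g, mem_centralizer_singleton_iff.2 ?_, ?_⟩
  · obtain ⟨a, b, ha, hb, hab⟩ := M64.exists_z_comm hx
    obtain ⟨a', ha', hae⟩ := hmove _ ⟨a, mem_centralizer_singleton_iff.2 ha, rfl⟩
    obtain ⟨b', hb', hbe⟩ := hmove _ ⟨b, mem_centralizer_singleton_iff.2 hb, rfl⟩
    have hz : (c : G) * g * d.z * ((c : G) * g)⁻¹ = d.hom (a' * b' * a'⁻¹ * b'⁻¹) := by
      rw [z, ← hab]
      simp only [map_mul, map_inv, hae, hbe]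
      group
    have hne : a' * b' * a'⁻¹ * b'⁻¹ ≠ 1 := fun e => (two_iff.1 d.z_order).2 <| by
      rw [e, map_one] at hz
      exact conj_eq_one_iff.1 hz
    rw [(M64.comm_of_outer hx' (mem_centralizer_singleton_iff.1 ha')
      (mem_centralizer_singleton_iff.1 hb')).resolve_left hne] at hz
    exact mul_inv_eq_iff_eq_mul.1 hz
  · rw [show (c : G) * g * d.hom x * ((c : G) * g)⁻¹ = c * (g * d.hom x * g⁻¹) * (c : G)⁻¹ by group, hg,
      mem_centralizer_singleton_iff.1 c.2, mul_inv_cancel_right]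

/-- An involution outside `E` conjugate to the central one is moved into `E` by the centraliser of the
latter, and one of the six points fixed by involutions of the complement is a conjugate of it. -/
theorem outer_zType {x : M64} (hx : (x.lab : ℕ) ∈ outer) (h : IsConj d.z (d.hom x)) :
    (∃ c ∈ d.Cz, c * d.hom x * c⁻¹ ∈ d.E) ∧
      ∃ i : Fin 16, i.val ∈ [1, 4, 10, 11, 14, 15] ∧ IsConj d.z (d.el i) := by
  obtain ⟨g, hg⟩ := isConj_iff.1 h.symm
  set F := (d.cT x).map (MulAut.conj g).toMonoidHom with hF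
  have hFC : F ≤ d.Cz := by
    rintro _ ⟨a, ha, rfl⟩
    refine mem_centralizer_singleton_iff.2 ?_
    rw [← hg]
    exact conj_comm_iff.2 (d.cT_comm ha)
  obtain ⟨c, hc⟩ := d.dC.exists_conj_le
    (((d.isPGroup_T.to_le (d.cT_le_T x)).map (MulAut.conj g).toMonoidHom).comap_subtype (K := d.Cz))
  have hmove : ∀ a ∈ d.cT x, (c : G) * g * a * ((c : G) * g)⁻¹ ∈ d.T := by
    intro a ha
    obtain ⟨y, hy⟩ := hc ⟨g * a * g⁻¹, hFC ⟨a, ha, rfl⟩⟩ ⟨a, ha, rfl⟩
    refine ⟨y, (congrArg Subtype.val hy).trans ?_⟩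
    show (c : G) * (g * a * g⁻¹) * (c : G)⁻¹ = _
    group
  have hcv : (c : G) * g * d.hom x * ((c : G) * g)⁻¹ = d.z := by
    rw [show (c : G) * g * d.hom x * ((c : G) * g)⁻¹ = c * (g * d.hom x * g⁻¹) * (c : G)⁻¹ by group, hg,
      mem_centralizer_singleton_iff.1 c.2, mul_inv_cancel_right]
  obtain ⟨w, hw⟩ := hmove _ (d.z_mem_cT x)
  obtain ⟨a, b, ha, hb, hab⟩ := M64.exists_z_comm hx
  obtain ⟨a', hae⟩ := hmove _ ⟨a, mem_centralizer_singleton_iff.2 ha, rfl⟩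
  obtain ⟨b', hbe⟩ := hmove _ ⟨b, mem_centralizer_singleton_iff.2 hb, rfl⟩
  have hwab : a' * b' * a'⁻¹ * b'⁻¹ = w := d.inj (by
    simp only [map_mul, map_inv, hae, hbe, hw]
    rw [z, ← hab]; simp only [map_mul, map_inv]; group)
  have hw2 : w * w = 1 := d.inj (by
    rw [map_mul, hw, map_one, show (c : G) * g * d.z * ((c : G) * g)⁻¹ * ((c : G) * g * d.z * ((c : G) * g)⁻¹) =
      (c : G) * g * (d.z * d.z) * ((c : G) * g)⁻¹ by group, (two_iff.1 d.z_order).1]; group)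
  have hcw : ∀ {y : M64} {v : G}, d.hom y = (c : G) * g * v * ((c : G) * g)⁻¹ → v ∈ d.T → y * w = w * y :=
    fun {y v} hy hv => d.inj (by rw [map_mul, map_mul, hw, hy]; exact conj_comm_iff.2 (d.z_comm hv))
  have hmem := M64.comm_six hw2 (hcw hae (d.mem_T a)) (hcw hbe (d.mem_T b)) hwab
  have hw16 : (w.lab : ℕ) < 16 := (show ∀ n ∈ sixZ, n < 16 by decide) _ hmem
  have hwne : (w.lab : ℕ) ≠ 0 := fun e => (two_iff.1 d.z_order).2 <| by
    rw [show w = 1 from M64.ext' (e.trans M64.one_lab.symm), map_one] at hw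
    exact conj_eq_one_iff.1 hw.symm
  have hw5 : (w.lab : ℕ) ≠ 5 := fun e => by
    rw [show w = M64.z from M64.ext' (e.trans M64.z_lab.symm)] at hw
    have := d.inj (conj_inj (hcv.trans hw : (c : G) * g * d.hom x * _ = (c : G) * g * d.z * _))
    exact M64.outer_not_subE hx (this ▸ M64.z_mem_subE)
  have hcg : IsConj d.z (d.hom w) := isConj_iff.2 ⟨c * g, hw.symm⟩
  refine ⟨?_, ⟨w.lab, hw16⟩, ?_, ?_⟩
  · obtain ⟨n, -, hn, hne⟩ := d.fusion_E (le_top : d.E ≤ ⊤) (mem_top ((c : G) * g)) d.z_mem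
      (by rw [← hw]; exact d.hom_mem_E.2 hw16)
    refine ⟨n⁻¹ * ((c : G) * g), mem_centralizer_singleton_iff.2 (mul_inv_eq_iff_eq_mul.1 ?_), ?_⟩
    · rw [show n⁻¹ * ((c : G) * g) * d.z * (n⁻¹ * ((c : G) * g))⁻¹ =
        n⁻¹ * ((c : G) * g * d.z * ((c : G) * g)⁻¹) * n by group, ← hne]
      group
    · rw [show n⁻¹ * ((c : G) * g) * d.hom x * (n⁻¹ * ((c : G) * g))⁻¹ =
        n⁻¹ * ((c : G) * g * d.hom x * ((c : G) * g)⁻¹) * n⁻¹⁻¹ by group, hcv]
      exact (mem_normalizer_iff.1 (inv_mem hn) _).1 d.z_mem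
  · exact (show ∀ n ∈ sixZ, n ≠ 0 → n ≠ 5 → n ∈ [1, 4, 10, 11, 14, 15] by decide) _ hmem hwne hw5
  · rw [el]
    show IsConj d.z (d.hom (M64.of (w.lab : ℕ)))
    rwa [M64.of_lab]

/-- If the conjugates of `z` in the 2-subgroups of `H` around `E` lie in `E`, fusion into `E` inside `H` is
realised in the centraliser of `z`. -/
theorem fuse_into_E {H : Subgroup G} (hEH : d.E ≤ H)
    (hH : ∀ R : Subgroup G, IsPGroup 2 R → d.E ≤ R → R ≤ H → ∀ w ∈ R, IsConj d.z w → w ∈ d.E)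
    {v g : G} (hvz : v * d.z = d.z * v) (hg : g ∈ H) (hgv : g * v * g⁻¹ ∈ d.E) :
    ∃ c ∈ H, c ∈ d.Cz ∧ c * v * c⁻¹ ∈ d.E := by
  haveI : Fact (Nat.Prime 2) := ⟨Nat.prime_two⟩
  set e := g * v * g⁻¹ with he
  set C := H ⊓ centralizer ({e} : Set G) with hC
  have hEC : d.E ≤ C := fun a ha => ⟨hEH ha, mem_centralizer_singleton_iff.2 (d.isE16_E.comm ha hgv)⟩
  set w := g * d.z * g⁻¹ with hw
  have hwC : w ∈ C := ⟨H.mul_mem (H.mul_mem hg (hEH d.z_mem)) (H.inv_mem hg),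
    mem_centralizer_singleton_iff.2 (conj_comm_iff.2 hvz.symm)⟩
  have hw2 : orderOf w = 2 := two_conj d.z_order g
  obtain ⟨P, hP⟩ := ((IsPGroup.of_card (n := 4) (by rw [d.isE16_E.1]; norm_num) :
    IsPGroup 2 d.E).comap_subtype (K := C)).exists_le_sylow
  obtain ⟨Q, hQ⟩ := ((IsPGroup.of_card (n := 1) (by rw [Nat.card_zpowers, hw2]; norm_num) :
    IsPGroup 2 (zpowers w)).comap_subtype (K := C)).exists_le_sylow
  obtain ⟨c, hc⟩ := MulAction.exists_smul_eq C Q P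
  have hwR : (c : G) * w * (c : G)⁻¹ ∈ (P : Subgroup C).map C.subtype := by
    refine ⟨c * ⟨w, hwC⟩ * c⁻¹, ?_, rfl⟩
    rw [← hc]
    exact smul_mem_pointwise_smul _ (MulAut.conj c) _ (hQ (mem_zpowers w))
  have hwE : (c : G) * g * d.z * ((c : G) * g)⁻¹ ∈ d.E := by
    rw [show (c : G) * g * d.z * ((c : G) * g)⁻¹ = (c : G) * w * (c : G)⁻¹ by rw [hw]; group]
    refine hH _ (P.isPGroup'.map _) (fun a ha => ⟨⟨a, hEC ha⟩, hP ha, rfl⟩)
      ((map_subtype_le _).trans inf_le_left) _ hwR ?_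
    exact (isConj_iff.2 ⟨g, rfl⟩ : IsConj d.z w).trans (isConj_iff.2 ⟨c, rfl⟩)
  obtain ⟨n, hnH, hn, hne⟩ := d.fusion_E hEH (H.mul_mem c.2.1 hg) d.z_mem hwE
  refine ⟨n⁻¹ * ((c : G) * g), H.mul_mem (H.inv_mem hnH) (H.mul_mem c.2.1 hg),
    mem_centralizer_singleton_iff.2 (mul_inv_eq_iff_eq_mul.1 ?_), ?_⟩
  · rw [show n⁻¹ * ((c : G) * g) * d.z * (n⁻¹ * ((c : G) * g))⁻¹ =
      n⁻¹ * ((c : G) * g * d.z * ((c : G) * g)⁻¹) * n by group, ← hne]
    group
  · rw [show n⁻¹ * ((c : G) * g) * v * (n⁻¹ * ((c : G) * g))⁻¹ =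
      n⁻¹ * ((c : G) * (g * v * g⁻¹) * (c : G)⁻¹) * n⁻¹⁻¹ by group, ← he,
      mem_centralizer_singleton_iff.1 c.2.2, mul_inv_cancel_right]
    exact (mem_normalizer_iff.1 (inv_mem hn) _).1 hgv

/-- When the conjugates of `z` in the model lie in `E`, a 2-subgroup around `E` has the same property. -/
theorem ZInE.two_subgroup (hz : d.ZInE) {R : Subgroup G} (hR : IsPGroup 2 R) (hER : d.E ≤ R) {w : G}
    (hw : w ∈ R) (hc : IsConj d.z w) : w ∈ d.E := by
  obtain ⟨h, hh⟩ := d.exists_conj_le hR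
  have he := d.unique16 d.isPGroup_T (d.isE16_E.conj h) d.isE16_E
    (by rintro _ ⟨a, ha, rfl⟩; exact hh a (hER ha)) d.E_le
  obtain ⟨a, ha, hae⟩ : h * w * h⁻¹ ∈ d.E.map (MulAut.conj h).toMonoidHom := by
    rw [he]; exact hz _ (hh w hw) (hc.trans (isConj_iff.2 ⟨h, rfl⟩))
  exact conj_inj (show h * a * h⁻¹ = h * w * h⁻¹ from hae) ▸ ha

end Emb

end Cfsg.Agent.PGroups.AltEightSylow
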