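import Cfsg.Agent.PGroups.AltEightSylow.EBridge
import Cfsg.Agent.PGroups.AltEightSylow.Fusion
import Cfsg.Agent.H70.AltEight.Transfer
import Cfsg.Agent.S0215
import Cfsg.Prelude.Def_Transfer

/-!
The conjugates of the central involution in each of the local shapes; the centraliser modulo core is not a
2-group.
-/

set_option autoImplicit false
set_option linter.style.haveILetI false

namespace Cfsg.Agent.PGroups.AltEightSylow

open Subgroup PGroups.SmallExtraspecial

variable {G : Type*} [Group G]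

/-- The six points of `E` fixed by an involution of the complement. -/
def sixL : List ℕ := [1, 4, 10, 11, 14, 15]

/-- The selections for the shape with stabiliser of order four, apart from the empty one. -/
def selAlt : List ℕ := [1, 2, 4, 11, 13, 14, 19, 21, 22]

lemma six_out : ([0, 8, 16].all fun k => sixL.all fun a => !((oMask k).testBit a)) = true := by
  decide +kernel

lemma sel_zero : ((List.range 16).all fun a => !((oMask 0).testBit a) || a == 5) = true := by
  decide +kernel

/-- The subgroup `E⟨t₁⟩` of the model. -/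
def M64.subFirst : Subgroup M64 where
  carrier := {x | (x.lab : ℕ) < 32}
  one_mem' := by show ((1 : M64).lab : ℕ) < 32; rw [M64.one_lab]; norm_num
  mul_mem' := by
    intro x y hx hy
    have key : ((List.range 32).all fun a => (List.range 32).all fun b => Nat.blt (mulN a b) 32) = true := by
      decide +kernel
    simp only [List.all_eq_true, List.mem_range, Nat.blt_eq] at key
    show ((x * y).lab : ℕ) < 32
    rw [M64.mul_lab]; exact key _ hx _ hy
  inv_mem' := by
    intro x hx
    have key : ((List.range 32).all fun a => Nat.blt (invN a) 32) = true := by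
      decide +kernel
    simp only [List.all_eq_true, List.mem_range, Nat.blt_eq] at key
    show ((x⁻¹).lab : ℕ) < 32
    rw [M64.inv_lab]; exact key _ hx

lemma M64.mem_subFirst {x : M64} : x ∈ M64.subFirst ↔ (x.lab : ℕ) < 32 := Iff.rfl

lemma M64.card_subFirst : Nat.card M64.subFirst = 32 := by
  let e : M64.subFirst ≃ Fin 32 :=
    { toFun := fun x => ⟨x.1.lab, M64.mem_subFirst.1 x.2⟩
      invFun := fun i => ⟨M64.of i, M64.mem_subFirst.2 (by rw [M64.of_lab_val (by omega)]; exact i.2)⟩
      left_inv := fun x => Subtype.ext (M64.of_lab x.1)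
      right_inv := fun i => Fin.ext (M64.of_lab_val (by omega)) }
  rw [Nat.card_congr e, Nat.card_fin]

namespace Emb

variable (d : Emb G)

/-- The selection describing the conjugates of the central involution in `E`. -/
def IsSel (k : ℕ) : Prop :=
  k ∈ okSel ∧ ∀ i : Fin 16, IsConj d.z (d.el i) ↔ (oMask k).testBit i.val = true

lemma exists_el_lab {x : M64} (hx : (x.lab : ℕ) < 16) : ∃ i : Fin 16, i.val = x.lab ∧ d.el i = d.hom x :=
  ⟨⟨x.lab, hx⟩, rfl, congrArg d.hom (M64.of_lab x)⟩

variable [Finite G]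

theorem exists_isSel : ∃ k, d.IsSel k := by
  obtain ⟨k, hk, -, h⟩ := d.exists_sel
  exact ⟨k, hk, h⟩

/-- Selections when `E` is self-normalising in the centraliser modulo core, up to the Sylow subgroup. -/
theorem sel_small {k : ℕ} (hk : d.IsSel k) (h : Nat.card (normalizer (d.dK.E : Set d.Kz)) = 64) :
    k = 0 ∨ k ∈ selAlt := by
  have h4 := (d.dK.card_aut_cases (Or.inl h)).resolve_right fun h' => absurd (h.symm.trans h'.2) (by norm_num)
  have := d.lin.sel_of_four hk.1 (d.aut_orbit hk.2) (by rw [d.stab_eq, h4])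
  simpa only [selAlt, List.mem_cons] using this

/-- Selections when the automiser of `E` in the centraliser modulo core has order 12. -/
theorem sel_large {k : ℕ} (hk : d.IsSel k) (h : Nat.card (normalizer (d.dK.E : Set d.Kz)) = 192)
    (h' : IsConj (d.dK.el 1) (d.dK.el 10)) : k ∈ [0, 8, 16] :=
  d.lin.sel_of_twelve hk.1 (d.aut_orbit hk.2)
    (by rw [d.stab_eq, ((d.dK.card_aut_cases (Or.inr h)).resolve_left (d.dK.aut_ne_four h')).1])

/-- When no point fixed by an involution of the complement is a conjugate of `z`, no involution outside `E`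
is one. -/
theorem zInE_of_six (hsix : ∀ i : Fin 16, i.val ∈ sixL → ¬ IsConj d.z (d.el i)) : d.ZInE := by
  intro w hw hc
  obtain ⟨g, hg⟩ := isConj_iff.1 hc
  obtain ⟨x, rfl, -, h | h⟩ := d.invol_cases hw (by
    rw [← hg, show g * d.z * g⁻¹ * (g * d.z * g⁻¹) = g * (d.z * d.z) * g⁻¹ by group,
      (two_iff.1 d.z_order).1]; group)
  · exact d.hom_mem_E.2 h
  · obtain ⟨-, i, hi, hci⟩ := d.outer_zType h hc
    exact absurd hci (hsix i hi)

theorem zInE_of_sel {k : ℕ} (hk : d.IsSel k) (h : k ∈ [0, 8, 16]) : d.ZInE := by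
  refine d.zInE_of_six fun i hi hc => ?_
  have h0 := six_out
  simp only [List.all_eq_true, Bool.not_eq_true'] at h0
  exact absurd ((hk.2 i).1 hc) (by rw [h0 k h i.val hi]; exact Bool.false_ne_true)

/-- Some conjugate of the central involution other than itself lies in the model. -/
theorem sel_ne_zero (hodd : Cfsg.oddCore G = ⊥) (hcore2 : Cfsg.pCore 2 G = ⊥) {k : ℕ} (hk : d.IsSel k) :
    k ≠ 0 := by
  rintro rfl
  have hz := d.zInE_of_sel hk (by simp)
  haveI : Fact (Nat.Prime 2) := ⟨Nat.prime_two⟩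
  have hiso : ∀ g : G, g * d.z * g⁻¹ ∈ (d.sylow : Subgroup G) → g * d.z * g⁻¹ = d.z := by
    intro g hg
    have hc : IsConj d.z (g * d.z * g⁻¹) := isConj_iff.2 ⟨g, rfl⟩
    obtain ⟨i, hi⟩ := d.exists_el (hz _ hg hc)
    rw [← hi] at hc ⊢
    have h0 := sel_zero
    simp only [List.all_eq_true, List.mem_range, Bool.or_eq_true, Bool.not_eq_true', beq_iff_eq] at h0
    rw [show i = (5 : Fin 16) from Fin.ext
      ((h0 i.val i.2).resolve_left (by rw [(hk.2 i).1 hc]; exact Bool.noConfusion)), el_five]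
  obtain ⟨N, hN, hNodd, hcomm⟩ := Cfsg.Agent.S0215.result d.sylow d.z d.z_order (d.mem_T M64.z) hiso
  have hN1 : N = ⊥ := eq_bot_iff.2 (hodd ▸ Cores.le_oddCore hNodd)
  have hcen : ∀ g : G, g * d.z = d.z * g := by
    intro g
    have h := mem_bot.1 (hN1 ▸ hcomm g)
    exact (mul_inv_eq_iff_eq_mul.1 (mul_inv_eq_one.1 h) : d.z * g = g * d.z).symm
  haveI : (zpowers d.z).Normal := ⟨fun a ha g => by
    obtain ⟨n, rfl⟩ := mem_zpowers_iff.1 ha
    rw [((show Commute g d.z from hcen g).zpow_right n).eq, mul_inv_cancel_right]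
    exact zpow_mem (mem_zpowers _) n⟩
  have hle := Cores.le_pCore (p := 2) (N := zpowers d.z)
    (IsPGroup.of_card (n := 1) (by rw [Nat.card_zpowers, d.z_order]; norm_num))
  rw [hcore2] at hle
  exact (two_iff.1 d.z_order).2 (mem_bot.1 (hle (mem_zpowers _)))

/-- The centraliser of `z` moves no involution outside `E` into `E` when `E` is normal modulo core. -/
theorem not_fused_E (hn : ∀ k : d.Kz, k ∈ normalizer (d.dK.E : Set d.Kz)) {x : M64}
    (hx : (x.lab : ℕ) ∈ outer) {c : G} (hc : c ∈ d.Cz) : c * d.hom x * c⁻¹ ∉ d.E := by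
  rintro ⟨y, hy, hye⟩
  have h1 : QuotientGroup.mk' _ (⟨c, hc⟩ : d.Cz) * d.dK.hom x *
      (QuotientGroup.mk' _ (⟨c, hc⟩ : d.Cz))⁻¹ = d.dK.hom y := by
    rw [dK_hom, dK_hom, ← map_inv, ← map_mul, ← map_mul]
    exact congrArg _ (Subtype.ext hye.symm)
  refine M64.outer_not_subE hx (M64.mem_subE.2 (d.dK.hom_mem_E.1 ?_))
  exact (mem_normalizer_iff.1 (hn _) _).2 (by rw [h1]; exact d.dK.hom_mem_E.2 (M64.mem_subE.1 hy))

/-- With the conjugates of `z` inside `E` and `E` normal modulo core, no involution outside `E` is fused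
into `E`. -/
theorem notE_of_normal (hz : d.ZInE) (hn : ∀ k : d.Kz, k ∈ normalizer (d.dK.E : Set d.Kz)) {x : M64}
    (hx : (x.lab : ℕ) ∈ outer) : d.NotE (d.hom x) := by
  intro g hg
  obtain ⟨c, -, hc, hcE⟩ := d.fuse_into_E (H := ⊤) le_top
    (fun R hR hER _ w hw hcw => hz.two_subgroup d hR hER hw hcw) (d.z_comm (d.mem_T x)) (mem_top g) hg
  exact d.not_fused_E hn hx hc hcE

/-- The centraliser modulo core is not a 2-group. -/
theorem card_Kz_ne (hres : Cfsg.pResidual 2 G = ⊤) : Nat.card d.Kz ≠ 64 := by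
  intro h64
  have hT : (⊤ : Subgroup d.Kz) ≤ d.dK.T :=
    (Subgroup.eq_of_le_of_card_ge le_top (by rw [card_top, d.dK.card_T, h64])).ge
  have hn : ∀ k : d.Kz, k ∈ normalizer (d.dK.E : Set d.Kz) := fun k => d.dK.T_normalizes (hT (mem_top k))
  have hz : d.ZInE := by
    intro w hw hc
    obtain ⟨g, hg⟩ := isConj_iff.1 hc
    obtain ⟨x, rfl, -, h | h⟩ := d.invol_cases hw (by
      rw [← hg, show g * d.z * g⁻¹ * (g * d.z * g⁻¹) = g * (d.z * d.z) * g⁻¹ by group,
        (two_iff.1 d.z_order).1]; group)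
    · exact d.hom_mem_E.2 h
    · obtain ⟨⟨c, hc', hcE⟩, -⟩ := d.outer_zType h hc
      exact absurd hcE (d.not_fused_E hn h hc')
  set Q := M64.subFirst.map d.hom with hQ
  have hQT : Q ≤ (d.sylow : Subgroup G) := map_le_range _ _
  have hQi : Q.relIndex (d.sylow : Subgroup G) = 2 := by
    have h1 : Nat.card Q = 32 := by rw [hQ, card_map_of_injective d.inj, M64.card_subFirst]
    have h2 := Subgroup.card_mul_index (Q.subgroupOf (d.sylow : Subgroup G))
    rw [Nat.card_congr (subgroupOfEquivOfLe hQT).toEquiv, h1,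
      show Nat.card (d.sylow : Subgroup G) = 64 from d.card_T] at h2
    rw [relIndex]; omega
  have h32 : ((M64.of 32).lab : ℕ) ∈ outer := by rw [M64.of_lab_val (by norm_num)]; decide
  have hno : ∀ g : G, g * d.hom (M64.of 32) * g⁻¹ ∉ Q := by
    rintro g ⟨y, hy, hye⟩
    have hy2 : y * y = 1 := d.inj (by
      rw [map_mul, hye, map_one, show g * d.hom (M64.of 32) * g⁻¹ * (g * d.hom (M64.of 32) * g⁻¹) =
        g * (d.hom (M64.of 32) * d.hom (M64.of 32)) * g⁻¹ by group, ← map_mul, M64.outer_sq h32, map_one]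
      group)
    rcases M64.invol_lab hy2 with hl | hl
    · exact d.notE_of_normal hz hn h32 g (hye ▸ d.hom_mem_E.2 hl)
    obtain ⟨c, hc, hce⟩ := d.outer_fused h32 hl (d.notE_of_normal hz hn hl) hye.symm
    obtain ⟨a, ha⟩ := hT (mem_top (QuotientGroup.mk' (Cfsg.oddCore d.Cz) ⟨c, hc⟩))
    have he : a * M64.of 32 * a⁻¹ = y := d.dK.inj (by
      rw [map_mul, map_mul, map_inv, ha, dK_hom, dK_hom, ← map_inv, ← map_mul, ← map_mul]
      exact congrArg _ (Subtype.ext hce))
    have key : ((List.range 64).all fun a => Nat.ble 32 (conjN a 32)) = true := by decide +kernel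
    simp only [List.all_eq_true, List.mem_range, Nat.ble_eq] at key
    have h1 := key _ a.lab.isLt
    have h2 : (y.lab : ℕ) < 32 := M64.mem_subFirst.1 hy
    rw [← he, M64.conj_lab, M64.of_lab_val (by norm_num)] at h2
    omega
  obtain ⟨M, hM, hMi, hu, -⟩ := H70.AltEight.transfer_strong d.sylow Q hQT hQi (d.hom (M64.of 32))
    (two_iff.2 ⟨by rw [← map_mul, M64.outer_sq h32, map_one],
      fun e => M64.outer_not_subE h32 ((d.inj (e.trans (map_one _).symm)).symm ▸ M64.subE.one_mem)⟩) hno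
  refine hu ?_
  suffices h : (⊤ : Subgroup G) ≤ M from h (mem_top _)
  rw [← hres, Cfsg.pResidual, closure_le]
  intro g hg
  rw [SetLike.mem_coe, ← QuotientGroup.eq_one_iff, ← orderOf_eq_one_iff]
  exact Nat.eq_one_of_dvd_coprimes hg (orderOf_map_dvd (QuotientGroup.mk' M) g)
    (hMi ▸ (index_eq_card M) ▸ orderOf_dvd_natCard _)

/-- The four possibilities reduce to three. -/
theorem shapes (hres : Cfsg.pResidual 2 G = ⊤) (hloc : d.dK.Local) :
    d.dK.ShapeE ∨ d.dK.ShapeAlt ∨ d.dK.ShapeSp :=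
  hloc.resolve_left (d.card_Kz_ne hres)

lemma ShapeE.sel {k : ℕ} (hs : d.dK.ShapeE) (hk : d.IsSel k) : k ∈ [0, 8, 16] := by
  refine d.sel_large hk ?_ hs.e₁₂
  rw [show normalizer (d.dK.E : Set d.Kz) = ⊤ from eq_top_iff.2 fun k _ => hs.normal k, card_top, hs.card]

lemma ShapeSp.sel {k : ℕ} (hs : d.dK.ShapeSp) (hk : d.IsSel k) : k ∈ [0, 8, 16] := by
  refine d.sel_large hk hs.norm_E_card (hs.six_fused 0 (by norm_num) 1 (by norm_num) _ _ ?_ ?_)
  · exact ⟨by decide, by decide, by decide⟩
  · exact ⟨by decide, by decide, by decide⟩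

lemma ShapeAlt.sel {k : ℕ} (hs : d.dK.ShapeAlt) (hk : d.IsSel k) : k = 0 ∨ k ∈ selAlt :=
  d.sel_small hk (by rw [hs.norm_E, d.dK.card_T])

end Emb

end Cfsg.Agent.PGroups.AltEightSylow
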