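import Cfsg.Agent.PGroups.AltEightSylow.LinFour
import Cfsg.Agent.PGroups.AltEightSylow.EAct

/-!
Linear groups on the regular module of the four-group having the four-group as Sylow 2-subgroup: the orbit of
the fixed point.
-/

set_option autoImplicit false
set_option linter.style.haveILetI false

namespace Cfsg.Agent.PGroups.AltEightSylow

open Equiv PGroups.SmallExtraspecial

/-- The sum of two labels. -/
def xr (i j : Fin 16) : Fin 16 := ⟨i.val ^^^ j.val, Nat.xor_lt_two_pow (n := 4) i.2 j.2⟩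

lemma pAct_lt (p : Fin 4) (i : Fin 16) : pAct p i < 16 := by
  have h := pAct_comp
  simp only [List.all_eq_true, List.mem_range, Bool.and_eq_true, Nat.blt_eq] at h
  exact (h p p.2 p p.2 i i.2).1.2

lemma pAct_mul (p q : Fin 4) (i : Fin 16) : pAct p (pAct q i) = pAct (p.val ^^^ q.val) i := by
  have h := pAct_comp
  simp only [List.all_eq_true, List.mem_range, Bool.and_eq_true, beq_iff_eq] at h
  exact (h p p.2 q q.2 i i.2).1.1

lemma pAct_zero (i : Fin 16) : pAct 0 i = i := by
  have h := pAct_comp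
  simp only [List.all_eq_true, List.mem_range, Bool.and_eq_true, beq_iff_eq] at h
  have h' := (h 0 (by norm_num) 0 (by norm_num) 0 (by norm_num)).2
  simp only [beq_self_eq_true] at h'
  rw [eq_comm, List.all_eq_true] at h'
  exact beq_iff_eq.1 (h' _ (List.mem_range.2 i.2))

lemma xor_swap {a b c d : ℕ} (h : a ^^^ b = c ^^^ d) : a ^^^ c = b ^^^ d := by
  refine Nat.eq_of_testBit_eq fun i => ?_
  have h1 := congrArg (fun v => v.testBit i) h
  simp only [Nat.testBit_xor] at h1 ⊢
  revert h1
  cases a.testBit i <;> cases b.testBit i <;> cases c.testBit i <;> cases d.testBit i <;> decide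

/-- The elements of the four-group as permutations. -/
def pp (p : Fin 4) : Perm (Fin 16) where
  toFun i := ⟨pAct p i, pAct_lt p i⟩
  invFun i := ⟨pAct p i, pAct_lt p i⟩
  left_inv i := Fin.ext (by show pAct p (pAct p i) = i; rw [pAct_mul, Nat.xor_self, pAct_zero])
  right_inv i := Fin.ext (by show pAct p (pAct p i) = i; rw [pAct_mul, Nat.xor_self, pAct_zero])

lemma pp_val (p : Fin 4) (i : Fin 16) : ((pp p i : Fin 16) : ℕ) = pAct p i := rfl

lemma pp_mul (p q : Fin 4) : pp p * pp q = pp ⟨p.val ^^^ q.val, Nat.xor_lt_two_pow (n := 2) p.2 q.2⟩ :=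
  Equiv.ext fun i => Fin.ext (pAct_mul p q i)

lemma pp_zero : pp 0 = 1 := Equiv.ext fun i => Fin.ext (pAct_zero i)

lemma pp_sq (p : Fin 4) : pp p * pp p = 1 := by
  rw [pp_mul, ← pp_zero]
  exact congrArg pp (Fin.ext (Nat.xor_self _))

lemma pp_inj : Function.Injective pp := by
  have key : ∀ p : Fin 4, pp p = 1 → p = 0 := by
    intro p hp
    by_contra h0
    have h := pAct_comp
    simp only [List.all_eq_true, List.mem_range, Bool.and_eq_true, beq_iff_eq] at h
    have h' := (h p p.2 p p.2 0 (by norm_num)).2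
    have hall : ((List.range 16).all fun b => pAct p b == b) = true := List.all_eq_true.2 fun b hb =>
      beq_iff_eq.2 (congrArg Fin.val (congrArg (fun g : Perm (Fin 16) => g ⟨b, List.mem_range.1 hb⟩) hp))
    rw [hall, beq_iff_eq] at h'
    exact h0 (Fin.ext h')
  intro p q h
  have h1 := key _ ((pp_mul p q).symm.trans (by rw [h, pp_sq]))
  exact Fin.ext (Nat.xor_eq_zero_iff.1 (congrArg Fin.val h1))

/-- The four-group. -/
def fourP : Subgroup (Perm (Fin 16)) where
  carrier := Set.range pp
  one_mem' := ⟨0, pp_zero⟩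
  mul_mem' := by rintro _ _ ⟨p, rfl⟩ ⟨q, rfl⟩; exact ⟨_, (pp_mul p q).symm⟩
  inv_mem' := by rintro _ ⟨p, rfl⟩; exact ⟨p, (inv_eq_of_mul_eq_one_right (pp_sq p)).symm⟩

lemma mem_fourP {g : Perm (Fin 16)} : g ∈ fourP ↔ ∃ p, pp p = g := Iff.rfl

lemma card_fourP : Nat.card fourP = 4 := by
  rw [show Nat.card fourP = Nat.card (Set.range pp) from rfl, Nat.card_range_of_injective pp_inj, Nat.card_fin]

/-- A linear group on the sixteen labels with the four-group as Sylow 2-subgroup. -/
structure Lin (X : Subgroup (Perm (Fin 16))) : Prop where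
  add : ∀ g ∈ X, ∀ i j : Fin 16, g (xr i j) = xr (g i) (g j)
  four_le : fourP ≤ X
  maxl : ∀ Q : Subgroup (Perm (Fin 16)), IsPGroup 2 Q → fourP ≤ Q → Q ≤ X → Q = fourP

namespace Lin

variable {X : Subgroup (Perm (Fin 16))} (L : Lin X)
include L

lemma map_zero {g : Perm (Fin 16)} (hg : g ∈ X) : g 0 = 0 := by
  have h := L.add g hg 0 0
  rw [show xr (0 : Fin 16) 0 = 0 from rfl, show xr (g 0) (g 0) = 0 from Fin.ext (Nat.xor_self _)] at h
  exact h

omit L in
lemma odd_fix {g : Perm (Fin 16)} (ho : Odd (orderOf g)) {i : Fin 16} (h : g (g i) = i) : g i = i := by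
  obtain ⟨m, hm⟩ := ho
  have hfix : ∀ n : ℕ, (g ^ (2 * n)) i = i := by
    intro n
    induction n with
    | zero => rfl
    | succ n ih =>
      rw [Nat.mul_succ, pow_add, pow_two, Perm.mul_apply, Perm.mul_apply, h, ih]
  have h1 := congrArg (fun k : Perm (Fin 16) => k i) (pow_orderOf_eq_one g)
  rw [hm, pow_succ'] at h1
  simp only [Perm.mul_apply, hfix, Perm.coe_one, id_eq] at h1
  exact h1

omit L in
lemma fix_mem {p : Fin 4} (hp : p ≠ 0) {i : Fin 16} : pp p i = i ↔ i.val ∈ fixList p := by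
  have h := pAct_facts
  simp only [List.all_eq_true, List.mem_range, Bool.or_eq_true, beq_iff_eq, Bool.and_eq_true] at h
  rcases h p p.2 with h0 | h0
  · exact absurd (Fin.ext h0) hp
  · rw [Fin.ext_iff, pp_val, ← List.contains_iff_mem, ← (h0 i.val i.2).1.1, beq_iff_eq]

/-- An element of odd order fixing `z` and commuting with an involution of the four-group is trivial. -/
lemma fix_eq_one {g : Perm (Fin 16)} (hg : g ∈ X) (ho : Odd (orderOf g)) {p : Fin 4} (hp : p ≠ 0)
    (hc : g * pp p = pp p * g) (h5 : g 5 = 5) : g = 1 := by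
  have hc' : ∀ i, g (pp p i) = pp p (g i) := fun i => congrArg (fun k : Perm (Fin 16) => k i) hc
  have hF : ∀ i : Fin 16, pp p i = i → g i = i := by
    intro i hi
    have hmem := (fix_mem hp).1 hi
    have h2 : pp p (g i) = g i := by rw [← hc', hi]
    have hmem2 := (fix_mem hp).1 h2
    have h3 : pp p (g (g i)) = g (g i) := by rw [← hc', h2]
    have hmem3 := (fix_mem hp).1 h3
    by_cases h0 : i = 0
    · rw [h0, L.map_zero hg]
    by_cases hi5 : i = 5
    · rw [hi5, h5]
    refine odd_fix ho ?_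
    have n1 : g i ≠ 0 := fun e => h0 (g.injective (e.trans (L.map_zero hg).symm))
    have n2 : g i ≠ 5 := fun e => hi5 (g.injective (e.trans h5.symm))
    have n3 : g (g i) ≠ 0 := fun e => n1 (g.injective (e.trans (L.map_zero hg).symm))
    have n4 : g (g i) ≠ 5 := fun e => n2 (g.injective (e.trans h5.symm))
    have h4 : g (g i) = g i → g (g i) = i := fun e => e.trans (g.injective e)
    simp only [ne_eq, Fin.ext_iff] at h0 hi5 n1 n2 n3 n4
    rw [Fin.ext_iff]
    rw [Fin.ext_iff, Fin.ext_iff] at h4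
    have key : ∀ q : Fin 4, ∀ a ∈ fixList q, ∀ b ∈ fixList q, ∀ c ∈ fixList q,
        a = 0 ∨ a = 5 ∨ b = 0 ∨ b = 5 ∨ c = 0 ∨ c = 5 ∨ c = a ∨ c = b ∨ b = a := by decide +kernel
    rcases key p _ hmem _ hmem2 _ hmem3 with e | e | e | e | e | e | e | e | e
    · exact absurd e h0
    · exact absurd e hi5
    · exact absurd e n1
    · exact absurd e n2
    · exact absurd e n3
    · exact absurd e n4
    · exact e
    · exact h4 e
    · have e' : g i = i := Fin.ext e
      rw [e', e']
  refine Equiv.ext fun i => ?_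
  show g i = i
  have h := pAct_facts
  simp only [List.all_eq_true, List.mem_range, Bool.or_eq_true, beq_iff_eq, Bool.and_eq_true] at h
  have hfl : ∀ j : Fin 16, pp p (xr (pp p j) j) = xr (pp p j) j := fun j => by
    rcases h p p.2 with h0 | h0
    · exact absurd (Fin.ext h0) hp
    · rw [fix_mem hp]; exact List.contains_iff_mem.1 (h0 j.val j.2).2
  have h1 := hF _ (hfl i)
  rw [L.add g hg, hc'] at h1
  have hw : pp p (xr (g i) i) = xr (g i) i := by
    rw [L.add _ (L.four_le ⟨p, rfl⟩)]
    apply Fin.ext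
    have h2 : (pp p (g i)).val ^^^ (g i).val = (pp p i).val ^^^ i.val := congrArg Fin.val h1
    show (pp p (g i)).val ^^^ (pp p i).val = (g i).val ^^^ i.val
    exact xor_swap h2
  have h2 := hF _ hw
  rw [L.add g hg] at h2
  refine odd_fix ho (Fin.ext ?_)
  have h3 : (g (g i)).val ^^^ (g i).val = (g i).val ^^^ i.val := congrArg Fin.val h2
  rw [Nat.xor_comm (g i).val i.val] at h3
  exact Nat.xor_left_inj.1 h3

/-- An element of prime order at least 5 commutes with no involution. -/
lemma five_seven {p : ℕ} (hp : p.Prime) (h5 : 5 ≤ p) {g : Perm (Fin 16)} (hg : g ∈ X) (hgp : orderOf g = p)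
    {q : Fin 4} (hq : q ≠ 0) : g * pp q ≠ pp q * g := by
  intro hc
  have ho : Odd (orderOf g) := hgp ▸ hp.odd_of_ne_two (by omega)
  have h5' : g 5 = 5 := by
    have hmem : ∀ n : ℕ, ((g ^ n) 5).val ∈ fixList q := by
      intro n
      refine (fix_mem hq).1 ?_
      have h5q : pp q 5 = 5 := (show ∀ q : Fin 4, pp q 5 = 5 by decide +kernel) q
      have hn : Commute (g ^ n) (pp q) := (show Commute g (pp q) from hc).pow_left n
      have := congrArg (fun k : Perm (Fin 16) => k 5) hn.eq
      simp only [Perm.mul_apply, h5q] at this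
      exact this.symm
    have hne0 : ∀ n : ℕ, (g ^ n) 5 ≠ 0 := fun n e => by
      have := (g ^ n).injective (e.trans (L.map_zero (X.pow_mem hg n)).symm)
      exact absurd this (by decide)
    obtain ⟨a, b, hab, hb4, he⟩ : ∃ a b : ℕ, a < b ∧ b < 4 ∧ (g ^ a) 5 = (g ^ b) 5 := by
      by_contra hne
      push Not at hne
      have key : ∀ q : Fin 4, ∀ a ∈ fixList q, ∀ b ∈ fixList q, ∀ c ∈ fixList q, ∀ d ∈ fixList q,
          a = 0 ∨ b = 0 ∨ c = 0 ∨ d = 0 ∨ a = b ∨ a = c ∨ a = d ∨ b = c ∨ b = d ∨ c = d := by decide +kernel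
      rcases key q _ (hmem 0) _ (hmem 1) _ (hmem 2) _ (hmem 3) with e | e | e | e | e | e | e | e | e | e
      · exact hne0 0 (Fin.ext e)
      · exact hne0 1 (Fin.ext e)
      · exact hne0 2 (Fin.ext e)
      · exact hne0 3 (Fin.ext e)
      all_goals exact hne _ _ (by norm_num) (by norm_num) (Fin.ext e)
    obtain ⟨k, rfl⟩ := Nat.exists_eq_add_of_lt hab
    rw [show a + k + 1 = a + (k + 1) by ring, pow_add, Perm.mul_apply] at he
    have hk : (g ^ (k + 1)) 5 = 5 := ((g ^ a).injective he).symm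
    have hcop : (k + 1).Coprime (orderOf g) := by
      rw [hgp]
      exact (hp.coprime_iff_not_dvd.2 fun h => absurd (Nat.le_of_dvd (by omega) h) (by omega)).symm
    obtain ⟨m, hm⟩ := exists_pow_eq_self_of_coprime hcop
    rw [← hm]
    have hfix : ∀ m : ℕ, ((g ^ (k + 1)) ^ m) 5 = 5 := by
      intro m
      induction m with
      | zero => rfl
      | succ m ih => rw [pow_succ', Perm.mul_apply, ih, hk]
    exact hfix m
  exact absurd (L.fix_eq_one hg ho hq hc h5') fun e => hp.ne_one (by rw [← hgp, e, orderOf_one])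

end Lin

end Cfsg.Agent.PGroups.AltEightSylow
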