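import Cfsg.Agent.PGroups.AltEightSylow.EShapeMain
import Cfsg.Agent.PGroups.AltEightSylow.Quot

/-!
The automiser of the elementary subgroup of order 16 as a linear group on the labels, and the restrictions
that the centraliser of the central involution puts on the conjugates of that involution.
-/

set_option autoImplicit false
set_option linter.style.haveILetI false

namespace Cfsg.Agent.PGroups.AltEightSylow

open Subgroup Equiv PGroups.SmallExtraspecial

variable {G : Type*} [Group G]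

namespace Emb

variable [Finite G] (d : Emb G)

/-- The action of the normaliser of `E` on labels. -/
noncomputable def phi : normalizer (d.E : Set G) →* Perm (Fin 16) where
  toFun n := Equiv.ofBijective (d.act n) (Finite.injective_iff_bijective.1 (d.act_inj n))
  map_one' := Equiv.ext d.act_one
  map_mul' n m := Equiv.ext (d.act_mul n m)

omit [Finite G] in
lemma el_phi (n : normalizer (d.E : Set G)) (i : Fin 16) : d.el (d.phi n i) = (n : G) * d.el i * (n : G)⁻¹ :=
  d.act_spec n i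

lemma phi_hom (p : Fin 4) :
    d.phi ⟨d.hom (M64.of (16 * p.val)), d.T_normalizes (d.mem_T _)⟩ = pp p := by
  refine Equiv.ext fun i => d.el_inj ?_
  rw [el_phi]
  exact d.el_conj _ i _ (by rw [M64.of_lab_val (by omega)]; rfl)

/-- The automiser. -/
noncomputable abbrev aut : Subgroup (Perm (Fin 16)) := d.phi.range

lemma four_le_aut : fourP ≤ d.aut := by
  rintro _ ⟨p, rfl⟩
  exact ⟨_, d.phi_hom p⟩

lemma sixteen_dvd_ker : 16 ∣ Nat.card d.phi.ker := by
  have hle : d.E.subgroupOf (normalizer (d.E : Set G)) ≤ d.phi.ker := fun x hx =>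
    Equiv.ext fun i => d.el_inj (by
      rw [el_phi, Perm.one_apply, d.isE16_E.comm (mem_subgroupOf.1 hx) (d.el_mem i), mul_inv_cancel_right])
  have h := Subgroup.card_dvd_of_le hle
  rwa [Nat.card_congr (subgroupOfEquivOfLe (fun a ha => d.T_normalizes (d.E_le ha))).toEquiv,
    d.isE16_E.1] at h

lemma card_aut : Nat.card d.aut * Nat.card d.phi.ker = Nat.card (normalizer (d.E : Set G)) := by
  rw [← index_ker, index_mul_card]

theorem lin : Lin d.aut where
  add := by
    rintro _ ⟨n, rfl⟩ i j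
    exact Fin.ext (d.act_xor n i j)
  four_le := d.four_le_aut
  maxl := fun Q hQ hle hQX => by
    haveI : Fact (Nat.Prime 2) := ⟨Nat.prime_two⟩
    obtain ⟨m, hm⟩ := IsPGroup.iff_card.1 hQ
    refine (Subgroup.eq_of_le_of_card_ge hle ?_).symm
    have h1 : Nat.card Q * 16 ∣ Nat.card (normalizer (d.E : Set G)) := by
      rw [← d.card_aut]
      exact mul_dvd_mul (Subgroup.card_dvd_of_le hQX) d.sixteen_dvd_ker
    have h2 := d.two_pow_le (m := m + 4)
      ((show 2 ^ (m + 4) ∣ _ by rw [pow_add, ← hm]; norm_num; exact h1).trans (card_subgroup_dvd_card _))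
    rw [card_fourP, hm, show (4 : ℕ) = 2 ^ 2 by norm_num]
    exact Nat.pow_le_pow_right (by norm_num) (by omega)

/-- The orbit of the central label is given by the conjugates of the central involution. -/
theorem aut_orbit {k : ℕ} (hiff : ∀ i : Fin 16, IsConj d.z (d.el i) ↔ (oMask k).testBit i.val = true)
    (i : Fin 16) : (∃ g ∈ d.aut, g 5 = i) ↔ (oMask k).testBit i.val = true := by
  rw [← hiff]
  refine ⟨?_, fun h => ?_⟩
  · rintro ⟨_, ⟨n, rfl⟩, rfl⟩
    exact isConj_iff.2 ⟨n, by rw [el_phi, el_five]⟩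
  · obtain ⟨g, hg⟩ := isConj_iff.1 h
    obtain ⟨n, -, hn, hnz⟩ := d.fusion_E (le_top : d.E ≤ ⊤) (mem_top g) d.z_mem (by rw [hg]; exact d.el_mem i)
    exact ⟨d.phi ⟨n, hn⟩, ⟨_, rfl⟩, d.el_inj (by rw [el_phi, el_five, hnz, hg])⟩

lemma dK_el (i : Fin 16) :
    d.dK.el i = QuotientGroup.mk' (Cfsg.oddCore d.Cz) ⟨d.el i, d.T_le_centralizer (d.mem_T _)⟩ := rfl

/-- An element normalising `E` modulo the odd core agrees there with one normalising `E`. -/
lemma exists_lift_norm (k : normalizer (d.dK.E : Set d.Kz)) :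
    ∃ n : normalizer (d.E : Set G), (n : G) ∈ d.Cz ∧ d.phi n = d.dK.phi k := by
  haveI : Fact (Nat.Prime 2) := ⟨Nat.prime_two⟩
  obtain ⟨c, hc⟩ := QuotientGroup.mk'_surjective (Cfsg.oddCore d.Cz) (k : d.Kz)
  set π := QuotientGroup.mk' (Cfsg.oddCore d.Cz) with hπ
  set W := d.dK.E.comap π with hW
  have hEW : d.dC.E ≤ W := fun e he => by
    obtain ⟨x, hx, rfl⟩ := he
    exact ⟨x, hx, rfl⟩
  have hFW : d.dC.E.map (MulAut.conj c).toMonoidHom ≤ W := by
    rintro _ ⟨e, he, rfl⟩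
    show π (c * e * c⁻¹) ∈ d.dK.E
    rw [map_mul, map_mul, map_inv, hc]
    exact (mem_normalizer_iff.1 k.2 _).1 (hEW he)
  obtain ⟨P, hP⟩ := ((IsPGroup.of_card (n := 4) (by rw [d.dC.isE16_E.1]; norm_num) :
    IsPGroup 2 d.dC.E).comap_subtype (K := W)).exists_le_sylow
  obtain ⟨Q, hQ⟩ := ((IsPGroup.of_card (n := 4) (by rw [(d.dC.isE16_E.conj c).1]; norm_num) :
    IsPGroup 2 (d.dC.E.map (MulAut.conj c).toMonoidHom)).comap_subtype (K := W)).exists_le_sylow
  obtain ⟨w, hw⟩ := MulAction.exists_smul_eq W Q P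
  have he := d.dC.unique16 (P.isPGroup'.map W.subtype) ((d.dC.isE16_E.conj c).conj (w : d.Cz)) d.dC.isE16_E
    (by
      rintro _ ⟨y, hy, rfl⟩
      refine ⟨w * ⟨y, hFW hy⟩ * w⁻¹, ?_, by simp⟩
      rw [← hw]
      exact smul_mem_pointwise_smul _ (MulAut.conj w) _ (hQ hy))
    (fun e he => ⟨⟨e, hEW he⟩, hP he, rfl⟩)
  have hn : ((w : d.Cz) : G) * (c : G) ∈ normalizer (d.E : Set G) := by
    refine mem_normalizer_of_conj_mem fun e he' => ?_
    obtain ⟨x, hx, rfl⟩ := he'
    have hmem : (w : d.Cz) * (c * d.dC.hom x * c⁻¹) * (w : d.Cz)⁻¹ ∈ d.dC.E :=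
      he ▸ ⟨c * d.dC.hom x * c⁻¹, ⟨_, ⟨x, hx, rfl⟩, rfl⟩, rfl⟩
    obtain ⟨y, hy, hye⟩ := hmem
    refine ⟨y, hy, ?_⟩
    have h2 := congrArg Subtype.val hye
    simp only [toSub_hom, Subgroup.coe_mul, InvMemClass.coe_inv] at h2
    rw [h2]; group
  refine ⟨⟨_, hn⟩, mul_mem (w : d.Cz).2 c.2, Equiv.ext fun i => d.el_inj ?_⟩
  rw [el_phi]
  have hk := d.dK.el_phi k i
  rw [← hc, d.dK_el i, ← map_inv, ← map_mul, ← map_mul] at hk
  -- conjugation by `w` is trivial modulo the odd core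
  have hwE : ∀ e ∈ d.dK.E, π (w : d.Cz) * e * (π (w : d.Cz))⁻¹ = e := fun e he' => by
    rw [d.dK.isE16_E.comm w.2 he', mul_inv_cancel_right]
  have hk2 : π ((w : d.Cz) * c * ⟨d.el i, d.T_le_centralizer (d.mem_T _)⟩ * ((w : d.Cz) * c)⁻¹) =
      π ⟨d.el (d.dK.phi k i), d.T_le_centralizer (d.mem_T _)⟩ := by
    rw [show (w : d.Cz) * c * ⟨d.el i, d.T_le_centralizer (d.mem_T _)⟩ * ((w : d.Cz) * c)⁻¹ =
        (w : d.Cz) * (c * ⟨d.el i, d.T_le_centralizer (d.mem_T _)⟩ * c⁻¹) * (w : d.Cz)⁻¹ by group,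
      map_mul, map_mul π (w : d.Cz), map_inv, ← hk, hwE _ (d.dK.el_mem _)]
    exact dK_el d _
  -- both sides lie in `E`, which meets the odd core trivially
  obtain ⟨j, hj⟩ := d.exists_el ((mem_normalizer_iff.1 hn _).1 (d.el_mem i))
  rw [← hj]
  refine congrArg d.el ?_
  refine d.dK.el_inj ?_
  rw [dK_el, dK_el, ← hk2]
  exact congrArg π (Subtype.ext hj)

/-- The stabiliser of the central label in the automiser is the automiser in the centraliser modulo core. -/
theorem stab_eq : stab5 d.aut = d.dK.aut := by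
  refine le_antisymm (fun g hg => ?_) ?_
  · obtain ⟨⟨n, rfl⟩, h5⟩ := mem_stab5.1 hg
    have hz : (n : G) * d.z * (n : G)⁻¹ = d.z := by
      rw [← el_five, ← el_phi, h5]
    set c : d.Cz := ⟨n, mem_centralizer_singleton_iff.2 (mul_inv_eq_iff_eq_mul.1 hz)⟩ with hcdef
    have hconj : ∀ i : Fin 16, QuotientGroup.mk' (Cfsg.oddCore d.Cz) c * d.dK.el i *
        (QuotientGroup.mk' (Cfsg.oddCore d.Cz) c)⁻¹ = d.dK.el (d.phi n i) := fun i => by
      rw [dK_el, dK_el, ← map_inv, ← map_mul, ← map_mul]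
      exact congrArg _ (Subtype.ext (d.el_phi n i).symm)
    refine ⟨⟨QuotientGroup.mk' _ c, mem_normalizer_of_conj_mem fun e he => ?_⟩, Equiv.ext fun i => ?_⟩
    · obtain ⟨i, rfl⟩ := d.dK.exists_el he
      rw [hconj]; exact d.dK.el_mem _
    · exact d.dK.el_inj (by rw [el_phi]; exact hconj i)
  · rintro _ ⟨k, rfl⟩
    obtain ⟨n, hn, he⟩ := d.exists_lift_norm k
    rw [← he]
    refine mem_stab5.2 ⟨⟨n, rfl⟩, d.el_inj ?_⟩
    rw [el_phi, el_five, mem_centralizer_singleton_iff.1 hn, mul_inv_cancel_right]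

/-- The order of the automiser in terms of the normaliser of `E`. -/
theorem card_aut_cases (h : Nat.card (normalizer (d.E : Set G)) = 64 ∨
    Nat.card (normalizer (d.E : Set G)) = 192) :
    Nat.card d.aut = 4 ∨ (Nat.card d.aut = 12 ∧ Nat.card (normalizer (d.E : Set G)) = 192) := by
  have h1 := d.card_aut
  obtain ⟨j, hj⟩ := d.sixteen_dvd_ker
  obtain ⟨a, ha⟩ : 4 ∣ Nat.card d.aut := card_fourP ▸ Subgroup.card_dvd_of_le d.four_le_aut
  rw [ha, hj] at h1
  rw [ha]
  rcases h with h | h <;> rw [h] at h1 ⊢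
  · left
    have : a * j = 1 := by nlinarith
    rw [Nat.eq_one_of_mul_eq_one_right this]
  · have h3 : a * j = 3 := by nlinarith
    rcases (Nat.dvd_prime Nat.prime_three).1 (Dvd.intro _ h3) with e | e <;> subst e <;> simp

/-- Fusion of two points of `E` on different fixed lines makes the automiser bigger. -/
lemma aut_ne_four (h : IsConj (d.el 1) (d.el 10)) : Nat.card d.aut ≠ 4 := by
  intro hc
  obtain ⟨g, hg⟩ := isConj_iff.1 h
  obtain ⟨n, -, hn, hne⟩ := d.fusion_E (le_top : d.E ≤ ⊤) (mem_top g) (d.el_mem 1)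
    (by rw [hg]; exact d.el_mem _)
  have h4 : d.phi ⟨n, hn⟩ ∈ fourP :=
    (Subgroup.eq_of_le_of_card_ge d.four_le_aut (by rw [hc, card_fourP])).ge ⟨_, rfl⟩
  obtain ⟨p, hp⟩ := h4
  have : pp p 1 = 10 := by
    rw [hp]; exact d.el_inj (by rw [el_phi, hne, hg])
  exact absurd this ((show ∀ p : Fin 4, pp p 1 ≠ 10 by decide +kernel) p)

end Emb

end Cfsg.Agent.PGroups.AltEightSylow
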