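import Cfsg.Agent.PGroups.AltEightSylow.EAut

/-!
The orbit of the fixed point under a linear group on the regular module of the four-group, given the order of
its stabiliser.
-/

set_option autoImplicit false
set_option linter.style.haveILetI false

namespace Cfsg.Agent.PGroups.AltEightSylow

open Equiv

/-- The stabiliser of the label of `z`. -/
def stab5 (X : Subgroup (Perm (Fin 16))) : Subgroup (Perm (Fin 16)) :=
  X ⊓ MulAction.stabilizer (Perm (Fin 16)) (5 : Fin 16)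

lemma mem_stab5 {X : Subgroup (Perm (Fin 16))} {g : Perm (Fin 16)} : g ∈ stab5 X ↔ g ∈ X ∧ g 5 = 5 := by
  simp [stab5, MulAction.mem_stabilizer_iff]

/-- The number of selected labels. -/
def selCard (k : ℕ) : ℕ := (List.range 16).countP fun a => (oMask k).testBit a

lemma selCard_vals : ([0, 1, 2, 4, 7, 8, 11, 13, 14, 16, 19, 21, 22, 31].map selCard) =
    [1, 3, 3, 3, 7, 5, 9, 9, 9, 5, 9, 9, 9, 15] := by
  decide +kernel

lemma oMask_one : (oMask 31).testBit 1 = true := by decide +kernel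

namespace Lin

variable {X : Subgroup (Perm (Fin 16))} (L : Lin X)
include L

lemma pp_five (p : Fin 4) : pp p 5 = 5 := (show ∀ q : Fin 4, pp q 5 = 5 by decide +kernel) p

lemma four_le_stab : fourP ≤ stab5 X := by
  rintro _ ⟨p, rfl⟩
  exact mem_stab5.2 ⟨L.four_le ⟨p, rfl⟩, L.pp_five p⟩

/-- A Sylow 2-subgroup of `X`. -/
lemma exists_conj {Q : Subgroup (Perm (Fin 16))} (hQ : IsPGroup 2 Q) (hle : Q ≤ X) :
    ∃ c ∈ X, ∀ q ∈ Q, c * q * c⁻¹ ∈ fourP := by
  haveI : Fact (Nat.Prime 2) := ⟨Nat.prime_two⟩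
  have hF : IsPGroup 2 fourP := IsPGroup.of_card (n := 2) (by rw [card_fourP]; norm_num)
  obtain ⟨A, hA⟩ := (hF.comap_subtype (K := X)).exists_le_sylow
  obtain ⟨B, hB⟩ := (hQ.comap_subtype (K := X)).exists_le_sylow
  obtain ⟨c, hc⟩ := MulAction.exists_smul_eq X B A
  have he := L.maxl ((A : Subgroup X).map X.subtype) (A.isPGroup'.map _)
    (fun q hq => ⟨⟨q, L.four_le hq⟩, hA hq, rfl⟩) (Subgroup.map_subtype_le _)
  refine ⟨c, c.2, fun q hq => ?_⟩
  rw [← he]
  refine ⟨c * ⟨q, hle hq⟩ * c⁻¹, ?_, by simp⟩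
  rw [← hc]
  exact Subgroup.smul_mem_pointwise_smul _ (MulAut.conj c) _ (hB hq)

lemma conj_fourP {p : Fin 4} {g : Perm (Fin 16)} {r : ℕ} (hr : r.Prime) (h5 : 5 ≤ r) (hg : g ∈ X)
    (hgr : orderOf g = r) {b c : Perm (Fin 16)} (hc : c ∈ X) (hb : c * b * c⁻¹ = pp p) (hp : p ≠ 0) :
    g * b ≠ b * g := by
  intro hgb
  refine L.five_seven hr h5 (X.mul_mem (X.mul_mem hc hg) (X.inv_mem hc))
    (by rw [← MulAut.conj_apply, MulEquiv.orderOf_eq]; exact hgr) hp ?_
  rw [← hb, show c * g * c⁻¹ * (c * b * c⁻¹) = c * (g * b) * c⁻¹ by group, hgb]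
  group

/-- The normaliser of a subgroup of prime order at least 5 has no four-group. -/
lemma normalizer_not_four {r : ℕ} (hr : r.Prime) (h5 : 5 ≤ r) {g : Perm (Fin 16)} (hg : g ∈ X)
    (hgr : orderOf g = r) :
    ¬ 4 ∣ Nat.card (X ⊓ Subgroup.normalizer (Subgroup.zpowers g : Set (Perm (Fin 16))) : Subgroup (Perm (Fin 16))) := by
  haveI : Fact (Nat.Prime 2) := ⟨Nat.prime_two⟩
  haveI : Fact r.Prime := ⟨hr⟩
  intro h4
  set N := (X ⊓ Subgroup.normalizer (Subgroup.zpowers g : Set (Perm (Fin 16))) : Subgroup (Perm (Fin 16)))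
  obtain ⟨S, hS⟩ := Sylow.exists_subgroup_card_pow_prime 2 (G := N) (n := 2) (by norm_num; exact h4)
  set Q := S.map N.subtype with hQ
  have hQc : Nat.card Q = 4 := by rw [hQ, Subgroup.card_map_of_injective N.subtype_injective, hS]; norm_num
  have hQN : Q ≤ N := Subgroup.map_subtype_le _
  obtain ⟨c, hc, hcQ⟩ := L.exists_conj (IsPGroup.of_card (n := 2) (by rw [hQc]; norm_num))
    (hQN.trans inf_le_left)
  have hmap : Q.map (MulAut.conj c).toMonoidHom = fourP := by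
    refine Subgroup.eq_of_le_of_card_ge ?_ ?_
    · rintro _ ⟨q, hq, rfl⟩; exact hcQ q hq
    · rw [Subgroup.card_map_of_injective (MulEquiv.injective _), hQc, card_fourP]
  -- each element of the four-group centralises or inverts
  have hinv : ∀ p : Fin 4, ∀ b ∈ Q, c * b * c⁻¹ = pp p → p ≠ 0 → b * g * b⁻¹ = g⁻¹ := by
    intro p b hbQ hb hp
    obtain ⟨n, hn⟩ := Subgroup.mem_zpowers_iff.1
      ((Subgroup.mem_normalizer_iff.1 (hQN hbQ).2 g).1 (Subgroup.mem_zpowers g))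
    have hbb : b * b = 1 := by
      have := pp_sq p
      rw [← hb, show c * b * c⁻¹ * (c * b * c⁻¹) = c * (b * b) * c⁻¹ by group] at this
      exact conj_eq_one_iff.1 this
    have h2 : g ^ (n * n) = g := by
      rw [zpow_mul, hn, conj_zpow, hn, show b * (b * g * b⁻¹) * b⁻¹ = b * b * g * (b * b)⁻¹ by group, hbb]
      group
    have hdvd : (r : ℤ) ∣ (n - 1) * (n + 1) := by
      rw [show (n - 1) * (n + 1) = n * n - 1 by ring, ← hgr]
      exact orderOf_dvd_iff_zpow_eq_one.2 (by rw [zpow_sub, h2, zpow_one, mul_inv_cancel])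
    rcases Int.Prime.dvd_mul' hr hdvd with h | h
    · exfalso
      refine L.conj_fourP hr h5 hg hgr hc hb hp ?_
      have h1 : g ^ n = g := by
        have := orderOf_dvd_iff_zpow_eq_one.1 (hgr ▸ h)
        rwa [zpow_sub, zpow_one, mul_inv_eq_one] at this
      rw [h1] at hn
      exact (mul_inv_eq_iff_eq_mul.1 hn.symm).symm
    · have h1 : g ^ n = g⁻¹ := by
        have := orderOf_dvd_iff_zpow_eq_one.1 (hgr ▸ h)
        rw [zpow_add, zpow_one] at this
        exact eq_inv_of_mul_eq_one_left this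
      rw [← hn, h1]
  have hget : ∀ p : Fin 4, ∃ b ∈ Q, c * b * c⁻¹ = pp p := fun p => by
    have : pp p ∈ Q.map (MulAut.conj c).toMonoidHom := hmap ▸ ⟨p, rfl⟩
    obtain ⟨b, hb, he⟩ := this
    exact ⟨b, hb, he⟩
  obtain ⟨b₁, hb₁, e₁⟩ := hget 1
  obtain ⟨b₂, hb₂, e₂⟩ := hget 2
  refine L.conj_fourP hr h5 hg hgr hc (b := b₁ * b₂) (p := 3) ?_ (by decide) ?_
  · rw [show c * (b₁ * b₂) * c⁻¹ = c * b₁ * c⁻¹ * (c * b₂ * c⁻¹) by group, e₁, e₂, pp_mul]; rfl
  · have h : b₁ * b₂ * g * (b₁ * b₂)⁻¹ = g := by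
      rw [show b₁ * b₂ * g * (b₁ * b₂)⁻¹ = b₁ * (b₂ * g * b₂⁻¹) * b₁⁻¹ by group,
        hinv 2 b₂ hb₂ e₂ (by decide), show b₁ * g⁻¹ * b₁⁻¹ = (b₁ * g * b₁⁻¹)⁻¹ by group,
        hinv 1 b₁ hb₁ e₁ (by decide), inv_inv]
    exact (mul_inv_eq_iff_eq_mul.1 h).symm

/-- Prime divisors at least 5 of a small order are impossible. -/
lemma no_prime {r m : ℕ} (hr : r.Prime) (h5 : 5 ≤ r) (hcard : Nat.card X = r * m) (h4 : 4 ∣ m)
    (hndvd : ¬ r ∣ m) (hn : ∀ n : ℕ, n ∣ m → n % r = 1 → n = 1) : False := by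
  haveI : Fact r.Prime := ⟨hr⟩
  obtain ⟨P, hPc⟩ := Sylow.exists_subgroup_card_pow_prime r (G := X) (n := 1) (by rw [pow_one]; exact ⟨m, hcard⟩)
  rw [pow_one] at hPc
  obtain ⟨S, hS⟩ := (IsPGroup.of_card (n := 1) (by rw [pow_one]; exact hPc) : IsPGroup r P).exists_le_sylow
  have hS' : (S : Subgroup X) = P := by
    refine (Subgroup.eq_of_le_of_card_ge hS ?_).symm
    obtain ⟨k, hk⟩ := S.isPGroup'.exists_card_eq
    have hd : Nat.card S ∣ r * m := hcard ▸ Subgroup.card_subgroup_dvd_card _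
    rw [hk] at hd ⊢
    rw [hPc]
    calc r ^ k ≤ r ^ 1 := Nat.pow_le_pow_right hr.pos (by
          by_contra hk2
          have h2 : r ^ 2 ∣ r * m := (pow_dvd_pow r (by omega)).trans hd
          rw [pow_two] at h2
          exact hndvd (Nat.dvd_of_mul_dvd_mul_left hr.pos h2))
      _ = r := pow_one r
  obtain ⟨⟨g, hgX⟩, hgP⟩ := (Subgroup.isCyclic_iff_exists_zpowers_eq_top P).1
    (isCyclic_of_prime_card (p := r) hPc)
  have hnum : Nat.card (Sylow r X) = 1 := by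
    refine hn _ ?_ ?_
    · have h := S.card_dvd_index
      have hi := Subgroup.card_mul_index (S : Subgroup X)
      rw [hS', hPc, hcard] at hi
      rw [hS', Nat.eq_of_mul_eq_mul_left hr.pos hi] at h
      exact h
    · have h := card_sylow_modEq_one r X
      rw [Nat.ModEq, Nat.one_mod_eq_one.2 hr.ne_one] at h
      exact h
  haveI : (S : Subgroup X).Normal := by
    haveI : Subsingleton (Sylow r X) := (Nat.card_eq_one_iff_unique.1 hnum).1
    exact Sylow.normal_of_subsingleton S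
  have hgr : orderOf g = r := by
    rw [← Nat.card_zpowers, ← hPc, ← hgP, ← Subgroup.card_map_of_injective X.subtype_injective,
      MonoidHom.map_zpowers]
    rfl
  refine L.normalizer_not_four hr h5 hgX hgr ?_
  refine (show 4 ∣ Nat.card X from hcard ▸ Dvd.dvd.mul_left h4 r).trans (dvd_of_eq ?_)
  congr 1
  refine congrArg (fun K : Subgroup (Perm (Fin 16)) => ↥K) (inf_eq_left.2 fun a ha => ?_).symm
  refine PGroups.SmallExtraspecial.mem_normalizer_of_conj_mem fun q hq => ?_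
  have hq' : (⟨q, (Subgroup.zpowers_le.2 hgX) hq⟩ : X) ∈ (S : Subgroup X) := by
    rw [hS', ← hgP]
    obtain ⟨n, rfl⟩ := Subgroup.mem_zpowers_iff.1 hq
    exact ⟨n, rfl⟩
  have h := Subgroup.Normal.conj_mem inferInstance _ hq' (⟨a, ha⟩ : X)
  rw [hS', ← hgP] at h
  obtain ⟨n, hn'⟩ := Subgroup.mem_zpowers_iff.1 h
  exact Subgroup.mem_zpowers_iff.2 ⟨n, congrArg Subtype.val hn'⟩

end Lin

end Cfsg.Agent.PGroups.AltEightSylow
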