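import Cfsg.Agent.PGroups.AltEightSylow.EOrbit

/-!
The possible orbits of the fixed point under a linear group on the regular module of the four-group.
-/

set_option autoImplicit false
set_option linter.style.haveILetI false

namespace Cfsg.Agent.PGroups.AltEightSylow

open Equiv

lemma sel_partial : ([1, 2, 4, 11, 13, 14, 19, 21, 22].all fun k => !((oMask k).testBit 1 == (oMask k).testBit 10) ||
    !((oMask k).testBit 10 == (oMask k).testBit 11)) = true := by
  decide +kernel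

lemma fix_images : ∀ p : Fin 4, ∀ i : Fin 16, pp p i = i → i = 0 ∨ i = 5 ∨
    (p = 0 ∨ (p = 1 ∧ (i = 1 ∨ i = 4)) ∨ (p = 2 ∧ (i = 10 ∨ i = 15)) ∨ (p = 3 ∧ (i = 11 ∨ i = 14))) := by
  decide +kernel

lemma sel_pairs : ((List.range 32).all fun k => (oMask k).testBit 1 == (oMask k).testBit 4 &&
    (oMask k).testBit 10 == (oMask k).testBit 15 && (oMask k).testBit 11 == (oMask k).testBit 14) = true := by
  decide +kernel

lemma xr_val (i j : Fin 16) : ((xr i j : Fin 16) : ℕ) = i.val ^^^ j.val := rfl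

lemma pow_three_cases' {G : Type*} [Group G] {c g : G} (ho : orderOf c = 3) (hg : g ∈ Subgroup.zpowers c) :
    g = 1 ∨ g = c ∨ g = c⁻¹ := by
  obtain ⟨n, rfl⟩ := Subgroup.mem_zpowers_iff.1 hg
  rw [← zpow_mod_orderOf c n, ho]
  have h4 : n % ((3 : ℕ) : ℤ) = 0 ∨ n % ((3 : ℕ) : ℤ) = 1 ∨ n % ((3 : ℕ) : ℤ) = 2 := by omega
  rcases h4 with h | h | h <;> rw [h]
  · exact Or.inl (zpow_zero c)
  · exact Or.inr (Or.inl (zpow_one c))
  · refine Or.inr (Or.inr (eq_inv_of_mul_eq_one_left ?_))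
    rw [← zpow_add_one, show (2 : ℤ) + 1 = ((3 : ℕ) : ℤ) by norm_num, zpow_natCast, ← ho, pow_orderOf_eq_one]

/-- A group of order twelve with four Sylow 3-subgroups has one Sylow 2-subgroup. -/
lemma four_sylow_three {G : Type*} [Group G] [Finite G] (hc : Nat.card G = 12) (h4 : Nat.card (Sylow 3 G) = 4)
    (h2 : 2 ≤ Nat.card (Sylow 2 G)) : False := by
  classical
  haveI : Fact (Nat.Prime 3) := ⟨Nat.prime_three⟩
  haveI : Fact (Nat.Prime 2) := ⟨Nat.prime_two⟩
  haveI := Fintype.ofFinite (Sylow 3 G)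
  have hP3 : ∀ P : Sylow 3 G, Nat.card P = 3 := fun P => by
    rw [P.card_eq_multiplicity, hc]
    have : Nat.factorization 12 3 = 1 := by
      rw [show (12 : ℕ) = 4 * 3 by norm_num, Nat.factorization_mul (by norm_num) (by norm_num)]
      simp [Nat.Prime.factorization Nat.prime_three, Nat.factorization_eq_zero_of_not_dvd (show ¬ 3 ∣ 4 by norm_num)]
    rw [this]; norm_num
  -- the eight elements of order three
  let f : (Σ P : Sylow 3 G, {g : (P : Subgroup G) // g ≠ 1}) → G := fun a => a.2.1.1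
  have hf : Function.Injective f := by
    rintro ⟨P, ⟨g, hgP⟩, hg⟩ ⟨P', ⟨g', hgP'⟩, hg'⟩ (e : g = g')
    subst e
    have hgen : ∀ Q : Sylow 3 G, g ∈ (Q : Subgroup G) → (Q : Subgroup G) = Subgroup.zpowers g := by
      intro Q hQ
      refine (Subgroup.eq_of_le_of_card_ge (Subgroup.zpowers_le.2 hQ) ?_).symm
      rw [hP3, Nat.card_zpowers]
      have hd : orderOf g ∣ 3 := by rw [← hP3 Q]; exact Subgroup.orderOf_dvd_natCard _ hQ
      rcases (Nat.dvd_prime Nat.prime_three).1 hd with h | h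
      · exact absurd (Subtype.ext (orderOf_eq_one_iff.1 h)) hg
      · omega
    obtain rfl : P = P' := Sylow.ext ((hgen P hgP).trans (hgen P' hgP').symm)
    rfl
  set S3 := Set.range f
  have hS3 : S3.ncard = 8 := by
    rw [← Nat.card_coe_set_eq, Nat.card_range_of_injective hf, Nat.card_sigma]
    have : ∀ P : Sylow 3 G, Nat.card {g : (P : Subgroup G) // g ≠ 1} = 2 := fun P => by
      haveI := Fintype.ofFinite (P : Subgroup G)
      rw [Nat.card_eq_fintype_card, Fintype.card_subtype_compl, Fintype.card_subtype_eq,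
        ← Nat.card_eq_fintype_card, hP3]
    rw [Finset.sum_congr rfl fun P _ => this P, Finset.sum_const, smul_eq_mul, Finset.card_univ,
      ← Nat.card_eq_fintype_card, h4]
  have hsub : ∀ P : Sylow 2 G, ((P : Subgroup G) : Set G) = S3ᶜ := by
    intro P
    have hPc : Nat.card P = 4 := by
      rw [P.card_eq_multiplicity, hc]
      have : Nat.factorization 12 2 = 2 := by
        rw [show (12 : ℕ) = 2 ^ 2 * 3 by norm_num, Nat.factorization_mul (by norm_num) (by norm_num),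
          Finsupp.add_apply, Nat.Prime.factorization_pow Nat.prime_two, Finsupp.single_eq_same,
          Nat.factorization_eq_zero_of_not_dvd (show ¬ 2 ∣ 3 by norm_num)]
      rw [this]; norm_num
    refine Set.eq_of_subset_of_ncard_le ?_ ?_ (Set.toFinite _)
    · rintro g hg ⟨⟨Q, ⟨g', hgQ⟩, hne⟩, (rfl : g' = g)⟩
      have h1 : orderOf g' ∣ 4 := hPc ▸ Subgroup.orderOf_dvd_natCard _ hg
      have h2 : orderOf g' ∣ 3 := hP3 Q ▸ Subgroup.orderOf_dvd_natCard _ hgQ
      exact hne (Subtype.ext (orderOf_eq_one_iff.1 (Nat.eq_one_of_dvd_coprimes (show Nat.Coprime 4 3 by norm_num) h1 h2)))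
    · rw [Set.ncard_compl, hc, hS3, ← Nat.card_coe_set_eq]
      exact hPc.ge
  haveI : Subsingleton (Sylow 2 G) := ⟨fun P P' => Sylow.ext (SetLike.ext' ((hsub P).trans (hsub P').symm))⟩
  have : Nat.card (Sylow 2 G) ≤ 1 := Finite.card_le_one_iff_subsingleton.2 inferInstance
  omega

namespace Lin

variable {X : Subgroup (Perm (Fin 16))} (L : Lin X)
include L

lemma eq_linMap {g : Perm (Fin 16)} (hg : g ∈ X) (i : Fin 16) :
    (g i).val = linMap (g 2).val (g 3).val (g 8).val (g 12).val i.val := by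
  have h0 := L.map_zero hg
  have key : ∀ a b : Fin 16, (g (xr a b)).val = (g a).val ^^^ (g b).val := fun a b =>
    congrArg Fin.val (L.add g hg a b)
  have hb : ∀ (c : Bool) (a : Fin 16), (g (bif c then a else 0)).val = bif c then (g a).val else 0 := by
    intro c a; cases c
    · simp [h0]
    · rfl
  have hdec : ∀ j : Fin 16, j = xr (xr (bif j.val.testBit 0 then xr 2 3 else 0) (bif j.val.testBit 1 then 2 else 0))
      (xr (bif j.val.testBit 2 then xr 8 12 else 0) (bif j.val.testBit 3 then 8 else 0)) := by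
    decide +kernel
  rw [linMap, ← key, ← key, ← hb, ← hb, ← hb, ← hb, ← key, ← key, ← key, ← hdec]

lemma card_eq {k : ℕ} (horb : ∀ i : Fin 16, (∃ g ∈ X, g 5 = i) ↔ (oMask k).testBit i.val = true) :
    Nat.card X = selCard k * Nat.card (stab5 X) := by
  classical
  have h := Subgroup.card_mul_index (MulAction.stabilizer X (5 : Fin 16))
  rw [MulAction.index_stabilizer] at h
  rw [← h, mul_comm]
  congr 1
  · have hs : MulAction.orbit X (5 : Fin 16) =
        ((Finset.univ.filter fun i : Fin 16 => (oMask k).testBit i.val = true : Finset (Fin 16)) : Set (Fin 16)) := by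
      ext i
      rw [Finset.coe_filter, Set.mem_ofPred_eq, ← horb i]
      exact ⟨fun ⟨g, hg⟩ => ⟨Finset.mem_univ _, g, g.2, hg⟩, fun ⟨_, g, hg, h⟩ => ⟨⟨g, hg⟩, h⟩⟩
    rw [hs, Set.ncard_coe_finset, selCard, List.countP_eq_length_filter,
      ← List.toFinset_card_of_nodup (List.nodup_range.filter _), ← Finset.card_map Fin.valEmbedding]
    congr 1
    ext a
    simp only [Finset.mem_map, Finset.mem_filter, Finset.mem_univ, true_and, Fin.valEmbedding_apply,
      List.mem_toFinset, List.mem_filter, List.mem_range]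
    exact ⟨fun ⟨i, hi, e⟩ => e ▸ ⟨i.2, hi⟩, fun ⟨h1, h2⟩ => ⟨⟨a, h1⟩, h2, rfl⟩⟩
  · refine Nat.card_congr
      { toFun := fun g => ⟨g.1.1, mem_stab5.2 ⟨g.1.2, MulAction.mem_stabilizer_iff.1 g.2⟩⟩
        invFun := fun g => ⟨⟨g.1, (mem_stab5.1 g.2).1⟩, MulAction.mem_stabilizer_iff.2 (mem_stab5.1 g.2).2⟩
        left_inv := fun _ => rfl
        right_inv := fun _ => rfl }

/-- With a stabiliser of order 4 the orbit has at most nine points. -/
lemma complement {k : ℕ} (horb : ∀ i : Fin 16, (∃ g ∈ X, g 5 = i) ↔ (oMask k).testBit i.val = true)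
    (hs : Nat.card (stab5 X) = 4) (h15 : selCard k = 15) : False := by
  haveI : Fact (Nat.Prime 2) := ⟨Nat.prime_two⟩
  haveI : Fact (Nat.Prime 5) := ⟨by norm_num⟩
  have hst : stab5 X = fourP := (Subgroup.eq_of_le_of_card_ge L.four_le_stab (by rw [hs, card_fourP])).symm
  have hX : Nat.card X = 60 := by rw [L.card_eq horb, h15, hs]
  set P := fourP.subgroupOf X with hP
  have hPc : Nat.card P = 2 ^ 2 := by
    rw [hP, Nat.card_congr (Subgroup.subgroupOfEquivOfLe L.four_le).toEquiv, card_fourP]; norm_num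
  let S : Sylow 2 X :=
    { toSubgroup := P
      isPGroup' := IsPGroup.of_card hPc
      is_maximal' := fun {Q} hQ hle => by
        have h := L.maxl (Q.map X.subtype) (hQ.map _)
          (fun g hg => ⟨⟨g, L.four_le hg⟩, hle hg, rfl⟩) (Subgroup.map_subtype_le _)
        exact Subgroup.map_injective X.subtype_injective (by
          rw [h, hP, Subgroup.subgroupOf_map_subtype, inf_eq_left.2 L.four_le]) }
  have hN : Subgroup.normalizer ((S : Subgroup X) : Set X) ≤ Subgroup.centralizer ((S : Subgroup X) : Set X) := by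
    intro n hn
    have hn5 : ∀ p : Fin 4, pp p ((n : Perm (Fin 16)) 5) = (n : Perm (Fin 16)) 5 := by
      intro p
      have h := (Subgroup.mem_normalizer_iff''.1 hn ⟨pp p, L.four_le ⟨p, rfl⟩⟩).1 ⟨p, rfl⟩
      obtain ⟨q, hq⟩ := h
      have h2 := congrArg (fun f : Perm (Fin 16) => (n : Perm (Fin 16)) (f 5)) hq
      simp only [L.pp_five q, Subgroup.coe_subtype, Subgroup.coe_mul, Subgroup.coe_inv, Perm.mul_apply,
        Perm.inv_def, Equiv.apply_symm_apply] at h2
      exact h2.symm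
    have hfix : (n : Perm (Fin 16)) 5 = 5 := by
      have h1 := hn5 1
      have h2 := hn5 2
      have key : ∀ i : Fin 16, pp 1 i = i → pp 2 i = i → i = 0 ∨ i = 5 := by decide +kernel
      rcases key _ h1 h2 with e | e
      · exact absurd ((n : Perm (Fin 16)).injective (e.trans (L.map_zero n.2).symm)) (by decide)
      · exact e
    have hnP : (n : Perm (Fin 16)) ∈ fourP := hst ▸ mem_stab5.2 ⟨n.2, hfix⟩
    refine Subgroup.mem_centralizer_iff.2 fun q hq => Subtype.ext ?_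
    obtain ⟨a, ha⟩ := hnP
    obtain ⟨b, hb⟩ := (hq : (q : Perm (Fin 16)) ∈ fourP)
    show (q : Perm (Fin 16)) * n = n * q
    have hb2 : (q : Perm (Fin 16)) = pp b := hb.symm
    rw [← ha, hb2, pp_mul, pp_mul]
    exact congrArg pp (Fin.ext (Nat.xor_comm _ _))
  set R := (MonoidHom.transferSylow S hN).ker
  have hc := (MonoidHom.ker_transferSylow_isComplement' S hN).card_mul
  rw [show Nat.card (S : Subgroup X) = 2 ^ 2 from hPc, hX] at hc
  have hRc : Nat.card R = 15 := by show Nat.card (MonoidHom.transferSylow S hN).ker = 15; omega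
  obtain ⟨T5, hT5⟩ := Sylow.exists_subgroup_card_pow_prime 5 (G := R) (n := 1) (by rw [hRc]; norm_num)
  obtain ⟨P5, hP5⟩ := (IsPGroup.of_card hT5).exists_le_sylow
  have hnum : Nat.card (Sylow 5 R) = 1 := by
    have h1 : Nat.card (Sylow 5 R) ∣ 15 := hRc ▸ (P5.card_dvd_index.trans (Subgroup.index_dvd_card _))
    have h2 := card_sylow_modEq_one 5 R
    unfold Nat.ModEq at h2
    have h3 : Nat.card (Sylow 5 R) ≤ 15 := Nat.le_of_dvd (by norm_num) h1
    interval_cases h : Nat.card (Sylow 5 R) <;> omega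
  haveI : (P5 : Subgroup R).Normal := by
    haveI : Subsingleton (Sylow 5 R) := (Nat.card_eq_one_iff_unique.1 hnum).1
    exact Sylow.normal_of_subsingleton P5
  haveI : (P5 : Subgroup R).Characteristic := Sylow.characteristic_of_normal P5 inferInstance
  obtain ⟨⟨⟨g, hgX⟩, hgR⟩, hgT⟩ := (Subgroup.isCyclic_iff_exists_zpowers_eq_top T5).1
    (isCyclic_of_prime_card (p := 5) (by rw [hT5, pow_one]))
  have hgo : orderOf g = 5 := by
    rw [← pow_one 5, ← hT5, ← hgT, Nat.card_zpowers, Subgroup.orderOf_mk, Subgroup.orderOf_mk]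
  have hP5c : (P5 : Subgroup R) = T5 := by
    refine (Subgroup.eq_of_le_of_card_ge hP5 ?_).symm
    obtain ⟨k', hk'⟩ := P5.isPGroup'.exists_card_eq
    have hd : Nat.card P5 ∣ 15 := hRc ▸ Subgroup.card_subgroup_dvd_card _
    rw [hk'] at hd ⊢
    rw [hT5]
    refine Nat.pow_le_pow_right (by norm_num) ?_
    by_contra h2
    exact absurd ((pow_dvd_pow 5 (show 2 ≤ k' by omega)).trans hd) (by norm_num)
  refine L.normalizer_not_four (r := 5) (by norm_num) le_rfl hgX hgo ?_
  have hle : X ≤ Subgroup.normalizer (Subgroup.zpowers g : Set (Perm (Fin 16))) := by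
    intro a ha
    refine PGroups.SmallExtraspecial.mem_normalizer_of_conj_mem fun q hq => ?_
    obtain ⟨n, rfl⟩ := Subgroup.mem_zpowers_iff.1 hq
    have hmem : (⟨⟨g, hgX⟩, hgR⟩ : R) ^ n ∈ (P5 : Subgroup R) := by
      rw [hP5c, ← hgT]; exact ⟨n, rfl⟩
    have h := ((Subgroup.normal_of_characteristic (H := (P5 : Subgroup R))) : (P5 : Subgroup R).Normal)
    have hR : ((P5 : Subgroup R).map R.subtype).Normal := inferInstance
    have h2 := hR.conj_mem _ ⟨_, hmem, rfl⟩ ⟨a, ha⟩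
    obtain ⟨y, hy, hye⟩ := h2
    rw [hP5c, ← hgT] at hy
    obtain ⟨m, hm⟩ := Subgroup.mem_zpowers_iff.1 hy
    refine Subgroup.mem_zpowers_iff.2 ⟨m, ?_⟩
    have h3 := congrArg (fun t : X => (t : Perm (Fin 16))) hye
    simp only [Subgroup.coe_subtype, Subgroup.coe_mul, Subgroup.coe_inv, Subgroup.coe_zpow, ← hm] at h3
    exact h3
  rw [inf_eq_left.2 hle, hX]; norm_num

/-- An element of order three of a stabiliser of order 12 permutes the four-group cyclically. -/
lemma exists_cycle (hs : Nat.card (stab5 X) = 12) :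
    ∃ c ∈ stab5 X, c * c * c = 1 ∧ c * pp 1 * c⁻¹ = pp 2 ∧ c * pp 2 * c⁻¹ = pp 3 ∧ c * pp 3 * c⁻¹ = pp 1 := by
  haveI : Fact (Nat.Prime 3) := ⟨Nat.prime_three⟩
  haveI : Fact (Nat.Prime 2) := ⟨Nat.prime_two⟩
  set H := stab5 X with hH
  have hcomm : ∀ c ∈ H, orderOf c = 3 → ∀ p : Fin 4, p ≠ 0 → c * pp p ≠ pp p * c := by
    intro c hc ho p hp h
    have := L.fix_eq_one (mem_stab5.1 hc).1 (by rw [ho]; decide) hp h (mem_stab5.1 hc).2
    rw [this, orderOf_one] at ho
    omega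
  obtain ⟨⟨c₀, hc₀⟩, ho⟩ := exists_prime_orderOf_dvd_card' (G := H) 3 (by rw [hs]; norm_num)
  rw [Subgroup.orderOf_mk] at ho
  have hc0norm : ∀ p : Fin 4, c₀ * pp p * c₀⁻¹ ∈ fourP := by
    set Z := Subgroup.zpowers c₀ with hZ
    have hZH : Z ≤ H := Subgroup.zpowers_le.2 hc₀
    -- the cyclic subgroup is not normal
    set Q := fourP.map (MulAut.conj c₀).toMonoidHom with hQ
    have hQH : Q ≤ H := by
      rintro _ ⟨q, hq, rfl⟩
      exact H.mul_mem (H.mul_mem hc₀ (L.four_le_stab hq)) (H.inv_mem hc₀)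
    intro p
    by_contra hp
    have hF : IsPGroup 2 fourP := IsPGroup.of_card (n := 2) (by rw [card_fourP]; norm_num)
    have hQ2 : IsPGroup 2 Q := hF.map _
    obtain ⟨A, hA⟩ := (hF.comap_subtype (K := H)).exists_le_sylow
    obtain ⟨B, hB⟩ := (hQ2.comap_subtype (K := H)).exists_le_sylow
    have hAB : A ≠ B := by
      intro e
      subst e
      have he := L.maxl ((A : Subgroup H).map H.subtype) (A.isPGroup'.map _)
        (fun g hg => ⟨⟨g, L.four_le_stab hg⟩, hA hg, rfl⟩)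
        (fun g hg => (mem_stab5.1 (Subgroup.map_subtype_le _ hg)).1)
      refine hp ?_
      rw [← he]
      exact ⟨⟨_, hQH ⟨pp p, ⟨p, rfl⟩, rfl⟩⟩, hB ⟨pp p, ⟨p, rfl⟩, rfl⟩, rfl⟩
    have h3 : 2 ≤ Nat.card (Sylow 2 H) := by
      haveI : Nontrivial (Sylow 2 H) := ⟨⟨A, B, hAB⟩⟩
      exact Finite.one_lt_card
    obtain ⟨C, hC⟩ := ((IsPGroup.of_card (n := 1) (show Nat.card Z = 3 ^ 1 by
      rw [hZ, Nat.card_zpowers, ho]; norm_num)) : IsPGroup 3 Z).comap_subtype (K := H) |>.exists_le_sylow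
    have hn3 : Nat.card (Sylow 3 H) = 1 ∨ Nat.card (Sylow 3 H) = 4 := by
      have h1 : Nat.card (Sylow 3 H) ∣ 12 := hs ▸ (C.card_dvd_index.trans (Subgroup.index_dvd_card _))
      have h2 := card_sylow_modEq_one 3 H
      unfold Nat.ModEq at h2
      have h3 : Nat.card (Sylow 3 H) ≤ 12 := Nat.le_of_dvd (by norm_num) h1
      interval_cases h : Nat.card (Sylow 3 H) <;> omega
    have hC3 : Nat.card C = 3 := by
      obtain ⟨j, hj⟩ := C.isPGroup'.exists_card_eq
      have hd : Nat.card C ∣ 12 := hs ▸ Subgroup.card_subgroup_dvd_card _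
      have hge : 3 ≤ Nat.card C := by
        refine le_trans (le_of_eq ?_) (Subgroup.card_le_of_le hC)
        rw [show Z.comap H.subtype = Z.subgroupOf H from rfl,
          Nat.card_congr (Subgroup.subgroupOfEquivOfLe hZH).toEquiv, hZ, Nat.card_zpowers, ho]
      rw [hj] at hd hge ⊢
      rcases Nat.lt_or_ge j 2 with h | h
      · interval_cases j <;> omega
      · exact absurd ((pow_dvd_pow 3 h).trans hd) (by norm_num)
    rcases hn3 with h1 | h4
    · -- a normal subgroup of order three is centralised by an involution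
      haveI : Subsingleton (Sylow 3 H) := (Nat.card_eq_one_iff_unique.1 h1).1
      haveI : (C : Subgroup H).Normal := Sylow.normal_of_subsingleton C
      have hCZ : Z.subgroupOf H = C := Subgroup.eq_of_le_of_card_ge hC (by
        rw [Nat.card_congr (Subgroup.subgroupOfEquivOfLe hZH).toEquiv, hZ, Nat.card_zpowers, ho, hC3])
      have hconj : ∀ q : Fin 4, pp q * c₀ * (pp q)⁻¹ = c₀ ∨ pp q * c₀ * (pp q)⁻¹ = c₀⁻¹ := by
        intro q
        have h := Subgroup.Normal.conj_mem inferInstance (⟨c₀, hc₀⟩ : H)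
          (hC (Subgroup.mem_zpowers c₀)) ⟨pp q, L.four_le_stab ⟨q, rfl⟩⟩
        rw [← hCZ, Subgroup.mem_subgroupOf] at h
        simp only [Subgroup.coe_mul, Subgroup.coe_inv] at h
        rcases pow_three_cases' ho h with e | e | e
        · exact absurd (conj_eq_one_iff.1 e) (fun e' => by rw [e', orderOf_one] at ho; omega)
        · exact Or.inl e
        · exact Or.inr e
      have hfix : ∀ q : Fin 4, q ≠ 0 → pp q * c₀ * (pp q)⁻¹ = c₀⁻¹ := fun q hq =>
        (hconj q).resolve_left fun e => hcomm c₀ hc₀ ho q hq (mul_inv_eq_iff_eq_mul.1 e).symm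
      refine hcomm c₀ hc₀ ho 3 (by decide) (mul_inv_eq_iff_eq_mul.1 (show pp 3 * c₀ * (pp 3)⁻¹ = c₀ from ?_)).symm
      rw [show pp 3 = pp 1 * pp 2 by rw [pp_mul]; rfl,
        show pp 1 * pp 2 * c₀ * (pp 1 * pp 2)⁻¹ = pp 1 * (pp 2 * c₀ * (pp 2)⁻¹) * (pp 1)⁻¹ by group,
        hfix 2 (by decide), show pp 1 * c₀⁻¹ * (pp 1)⁻¹ = (pp 1 * c₀ * (pp 1)⁻¹)⁻¹ by group,
        hfix 1 (by decide), inv_inv]
    · -- four subgroups of order three leave room for one Sylow 2-subgroup
      exact four_sylow_three hs h4 h3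
  have hfun : ∀ p : Fin 4, p ≠ 0 → ∃ q : Fin 4, q ≠ 0 ∧ q ≠ p ∧ c₀ * pp p * c₀⁻¹ = pp q := by
    intro p hp
    obtain ⟨q, hq⟩ := hc0norm p
    refine ⟨q, ?_, ?_, hq.symm⟩
    · rintro rfl
      rw [pp_zero] at hq
      exact hp (pp_inj ((conj_eq_one_iff.1 hq.symm).trans pp_zero.symm))
    · rintro rfl
      exact hcomm c₀ hc₀ ho q hp (mul_inv_eq_iff_eq_mul.1 hq.symm)
  have h3 : c₀ * c₀ * c₀ = 1 := by
    rw [← pow_three', ← ho]; exact pow_orderOf_eq_one _
  obtain ⟨q1, n1, m1, e1⟩ := hfun 1 (by decide)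
  obtain ⟨q2, n2, m2, e2⟩ := hfun 2 (by decide)
  obtain ⟨q3, n3, m3, e3⟩ := hfun 3 (by decide)
  have hinj : ∀ {p p' q : Fin 4}, c₀ * pp p * c₀⁻¹ = pp q → c₀ * pp p' * c₀⁻¹ = pp q → p = p' :=
    fun h h' => pp_inj (PGroups.SmallExtraspecial.conj_inj (h.trans h'.symm))
  have d12 : q1 ≠ q2 := fun e => absurd (hinj e1 (e ▸ e2)) (by decide)
  have d13 : q1 ≠ q3 := fun e => absurd (hinj e1 (e ▸ e3)) (by decide)
  have d23 : q2 ≠ q3 := fun e => absurd (hinj e2 (e ▸ e3)) (by decide)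
  have key : ∀ a b c : Fin 4, a ≠ 0 → a ≠ 1 → b ≠ 0 → b ≠ 2 → c ≠ 0 → c ≠ 3 → a ≠ b → a ≠ c → b ≠ c →
      (a = 2 ∧ b = 3 ∧ c = 1) ∨ (a = 3 ∧ b = 1 ∧ c = 2) := by decide +kernel
  rcases key q1 q2 q3 n1 m1 n2 m2 n3 m3 d12 d13 d23 with ⟨rfl, rfl, rfl⟩ | ⟨rfl, rfl, rfl⟩
  · exact ⟨c₀, hc₀, h3, e1, e2, e3⟩
  · refine ⟨c₀⁻¹, H.inv_mem hc₀, by rw [← mul_inv_rev, ← mul_inv_rev, ← mul_assoc, h3, inv_one], ?_, ?_, ?_⟩
    · rw [← e2, inv_inv]; group
    · rw [← e3, inv_inv]; group
    · rw [← e1, inv_inv]; group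

end Lin

end Cfsg.Agent.PGroups.AltEightSylow
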