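import Cfsg.Agent.PGroups.AltEightSylow.EShape

/-!
The orbit of the fixed point of the regular module: the conclusion.
-/

set_option autoImplicit false
set_option linter.style.haveILetI false

namespace Cfsg.Agent.PGroups.AltEightSylow

open Equiv

namespace Lin

variable {X : Subgroup (Perm (Fin 16))} (L : Lin X)
include L

/-- A stabiliser of order 12 permutes the three fixed lines. -/
lemma cycle_points {c : Perm (Fin 16)} (hc : c ∈ stab5 X) {p q : Fin 4} (hp : p ≠ 0) (hq : q ≠ 0)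
    (h : c * pp p * c⁻¹ = pp q) {i : Fin 16} (hi : pp p i = i) (h0 : i ≠ 0) (h5 : i ≠ 5) :
    pp q (c i) = c i ∧ c i ≠ 0 ∧ c i ≠ 5 := by
  refine ⟨?_, fun e => h0 (c.injective (e.trans (L.map_zero (mem_stab5.1 hc).1).symm)),
    fun e => h5 (c.injective (e.trans (mem_stab5.1 hc).2.symm))⟩
  rw [← h, Perm.mul_apply, Perm.mul_apply, Perm.inv_def, Equiv.symm_apply_apply, hi]

/-- A second element moves the three points of a fixed line cyclically, commuting with its involution. -/
lemma exists_line (hs : Nat.card (stab5 X) = 12) (h1 : ∃ g ∈ X, g 5 = 1) :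
    ∃ d ∈ X, d * pp 1 = pp 1 * d ∧ d * (pp 2 * (d * pp 2)) = 1 ∧ d 5 = 4 ∧ d 4 = 1 ∧ d 1 = 5 := by
  obtain ⟨g, hg, hg1⟩ := h1
  set H := stab5 X with hH
  -- `pp 1` lies in the conjugate of the four-group fixing the label 1
  obtain ⟨c, hc, hc3, e12, e23, e31⟩ := L.exists_cycle hs
  have hnorm : ∀ k ∈ H, ∀ p : Fin 4, k * pp p * k⁻¹ ∈ fourP := by
    intro k hk p
    haveI : Fact (Nat.Prime 2) := ⟨Nat.prime_two⟩
    by_contra hp
    -- the product `fourP * ⟨c⟩` is all of the stabiliser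
    have hsub : ∀ k ∈ H, ∃ q : Fin 4, ∃ n : Fin 3, pp q * c ^ n.val = k := by
      let m : Fin 4 × Fin 3 → H := fun a => ⟨pp a.1 * c ^ a.2.val,
        H.mul_mem (L.four_le_stab ⟨a.1, rfl⟩) (H.pow_mem hc _)⟩
      have hm : Function.Injective m := by
        rintro ⟨q, n⟩ ⟨q', n'⟩ h
        have h' : pp q * c ^ n.val = pp q' * c ^ n'.val := congrArg Subtype.val h
        have hne1 : c ≠ 1 := fun e => by
          rw [e, one_mul, inv_one, mul_one] at e12
          exact absurd (pp_inj e12) (by decide)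
        have ho : orderOf c = 3 := by
          haveI : Fact (Nat.Prime 3) := ⟨Nat.prime_three⟩
          exact orderOf_eq_prime (by rw [pow_three', hc3]) hne1
        have h2 : pp q' * pp q = c ^ n'.val * (c ^ n.val)⁻¹ := by
          rw [eq_mul_inv_iff_mul_eq, mul_assoc, h', ← mul_assoc, pp_sq, one_mul]
        have h3 : pp q' * pp q = 1 := by
          rw [← orderOf_eq_one_iff]
          refine Nat.eq_one_of_dvd_coprimes (show Nat.Coprime 4 3 by norm_num) ?_ ?_
          · rw [← card_fourP]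
            exact Subgroup.orderOf_dvd_natCard _ (fourP.mul_mem ⟨q', rfl⟩ ⟨q, rfl⟩)
          · rw [h2]
            exact (orderOf_dvd_of_mem_zpowers ((Subgroup.zpowers c).mul_mem
              (Subgroup.pow_mem _ (Subgroup.mem_zpowers c) _)
              ((Subgroup.zpowers c).inv_mem (Subgroup.pow_mem _ (Subgroup.mem_zpowers c) _)))).trans ho.dvd
        have hqq : q = q' := pp_inj (by rw [eq_inv_of_mul_eq_one_left h3, inv_eq_of_mul_eq_one_right (pp_sq q)])
        subst hqq
        have h4 := mul_left_cancel h'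
        exact Prod.ext rfl (Fin.ext (pow_injOn_Iio_orderOf (by simp [ho]) (by simp [ho]) h4))
      intro k hk
      obtain ⟨⟨q, n⟩, hqn⟩ := (hm.bijective_of_nat_card_le (by
        rw [hs, Nat.card_prod, Nat.card_fin, Nat.card_fin])).2 ⟨k, hk⟩
      exact ⟨q, n, congrArg Subtype.val hqn⟩
    obtain ⟨q, n, rfl⟩ := hsub k hk
    have hcP : ∀ n : ℕ, c ^ n * pp p * (c ^ n)⁻¹ ∈ fourP := by
      intro n
      induction n with
      | zero => simp only [pow_zero, one_mul, inv_one, mul_one]; exact ⟨p, rfl⟩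
      | succ n ih =>
        obtain ⟨r, hr⟩ := ih
        rw [pow_succ', show c * c ^ n * pp p * (c * c ^ n)⁻¹ = c * (c ^ n * pp p * (c ^ n)⁻¹) * c⁻¹ by group,
          ← hr]
        fin_cases r
        · exact ⟨0, by simp [pp_zero]⟩
        · exact ⟨2, e12.symm⟩
        · exact ⟨3, e23.symm⟩
        · exact ⟨1, e31.symm⟩
    obtain ⟨r, hr⟩ := hcP n.val
    refine hp ⟨r, ?_⟩
    rw [show pp q * c ^ n.val * pp p * (pp q * c ^ n.val)⁻¹ =
      pp q * (c ^ n.val * pp p * (c ^ n.val)⁻¹) * (pp q)⁻¹ by group, ← hr, pp_mul,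
      inv_eq_of_mul_eq_one_right (pp_sq q), pp_mul]
    congr 1
    apply Fin.ext
    show r.val = q.val ^^^ r.val ^^^ q.val
    rw [Nat.xor_comm q.val, Nat.xor_assoc, Nat.xor_self, Nat.xor_zero]
  -- conjugate to the stabiliser of the label 1
  have hk : g⁻¹ * pp 1 * g ∈ H := by
    refine mem_stab5.2 ⟨X.mul_mem (X.mul_mem (X.inv_mem hg) (L.four_le ⟨1, rfl⟩)) hg, ?_⟩
    rw [Perm.mul_apply, Perm.mul_apply, hg1, show pp 1 (1 : Fin 16) = 1 by decide +kernel, ← hg1, Perm.inv_def,
      Equiv.symm_apply_apply]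
  obtain ⟨r, hr⟩ : g⁻¹ * pp 1 * g ∈ fourP := by
    by_contra hne
    -- an involution of the stabiliser normalises the four-group, so lies in it
    haveI : Fact (Nat.Prime 2) := ⟨Nat.prime_two⟩
    set k := g⁻¹ * pp 1 * g
    have hk2 : k * k = 1 := by
      simp only [k]
      rw [show g⁻¹ * pp 1 * g * (g⁻¹ * pp 1 * g) = g⁻¹ * (pp 1 * pp 1) * g by group, pp_sq]; group
    have hsup : IsPGroup 2 ↥(fourP ⊔ Subgroup.zpowers k) := by
      refine IsPGroup.to_sup_of_normal_left' (IsPGroup.of_card (n := 2) (by rw [card_fourP]; norm_num))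
        (fun x => ⟨1, Subtype.ext ?_⟩) ?_
      · obtain ⟨n, hn⟩ := Subgroup.mem_zpowers_iff.1 x.2
        rw [pow_one, pow_two, Subgroup.coe_mul, ← hn, ← (Commute.refl k).mul_zpow, hk2, one_zpow]; rfl
      · rw [Subgroup.zpowers_le]
        exact PGroups.SmallExtraspecial.mem_normalizer_of_conj_mem fun x ⟨p, hp⟩ => hp ▸ hnorm k hk p
    refine hne ?_
    rw [← L.maxl _ hsup le_sup_left (sup_le L.four_le (Subgroup.zpowers_le.2 (mem_stab5.1 hk).1))]
    exact Subgroup.mem_sup_right (Subgroup.mem_zpowers k)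
  have hr0 : r ≠ 0 := by
    rintro rfl
    rw [pp_zero, eq_comm, mul_assoc, inv_mul_eq_one, eq_comm, mul_eq_right] at hr
    exact absurd (pp_inj (hr.trans pp_zero.symm)) (by decide)
  -- another involution fixing the label 1
  obtain ⟨q, hq0, hqr⟩ : ∃ q : Fin 4, q ≠ 0 ∧ q ≠ r := ⟨if r = 1 then 2 else 1, by split_ifs <;> decide, by
    split_ifs with h
    · rw [h]; decide
    · exact fun e => h e.symm⟩
  set b := g * pp q * g⁻¹ with hb
  have hbX : b ∈ X := X.mul_mem (X.mul_mem hg (L.four_le ⟨q, rfl⟩)) (X.inv_mem hg)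
  have hgr : g * pp r * g⁻¹ = pp 1 := by rw [hr]; group
  have hbc : b * pp 1 = pp 1 * b := by
    rw [hb, ← hgr, show g * pp q * g⁻¹ * (g * pp r * g⁻¹) = g * (pp q * pp r) * g⁻¹ by group,
      show g * pp r * g⁻¹ * (g * pp q * g⁻¹) = g * (pp r * pp q) * g⁻¹ by group, pp_mul, pp_mul]
    rw [show (⟨q.val ^^^ r.val, Nat.xor_lt_two_pow (n := 2) q.2 r.2⟩ : Fin 4) =
      ⟨r.val ^^^ q.val, Nat.xor_lt_two_pow (n := 2) r.2 q.2⟩ from Fin.ext (Nat.xor_comm _ _)]
  have hb1 : b 1 = 1 := by
    rw [hb, Perm.mul_apply, Perm.mul_apply, ← hg1, Perm.inv_def, Equiv.symm_apply_apply, L.pp_five]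
  have hbb : b * b = 1 := by
    rw [hb, show g * pp q * g⁻¹ * (g * pp q * g⁻¹) = g * (pp q * pp q) * g⁻¹ by group, pp_sq]; group
  have hb5 : b 5 = 4 := by
    have hF : pp 1 (b 5) = b 5 := by
      rw [← Perm.mul_apply, ← hbc, Perm.mul_apply, L.pp_five]
    have key : ∀ i : Fin 16, pp 1 i = i → i = 0 ∨ i = 1 ∨ i = 4 ∨ i = 5 := by decide +kernel
    rcases key _ hF with e | e | e | e
    · exact absurd (b.injective (e.trans (L.map_zero hbX).symm)) (by decide)
    · exact absurd (b.injective (e.trans hb1.symm)) (by decide)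
    · exact e
    · exfalso
      -- then `b` is an involution of the four-group fixing the label 1
      have hbH : b ∈ H := mem_stab5.2 ⟨hbX, e⟩
      haveI : Fact (Nat.Prime 2) := ⟨Nat.prime_two⟩
      have hsup : IsPGroup 2 ↥(fourP ⊔ Subgroup.zpowers b) := by
        refine IsPGroup.to_sup_of_normal_left' (IsPGroup.of_card (n := 2) (by rw [card_fourP]; norm_num))
          (fun x => ⟨1, Subtype.ext ?_⟩) ?_
        · obtain ⟨n, hn⟩ := Subgroup.mem_zpowers_iff.1 x.2
          rw [pow_one, pow_two, Subgroup.coe_mul, ← hn, ← (Commute.refl b).mul_zpow, hbb, one_zpow]; rfl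
        · rw [Subgroup.zpowers_le]
          exact PGroups.SmallExtraspecial.mem_normalizer_of_conj_mem fun x ⟨p, hp⟩ => hp ▸ hnorm b hbH p
      obtain ⟨p, hp⟩ : b ∈ fourP := by
        rw [← L.maxl _ hsup le_sup_left (sup_le L.four_le (Subgroup.zpowers_le.2 hbX))]
        exact Subgroup.mem_sup_right (Subgroup.mem_zpowers b)
      have key2 : ∀ p : Fin 4, pp p 1 = 1 → p = 0 ∨ p = 1 := by decide +kernel
      rcases key2 p (by rw [hp]; exact hb1) with rfl | rfl
      · rw [pp_zero, hb, eq_comm, conj_eq_one_iff] at hp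
        exact hq0 (pp_inj (hp.trans pp_zero.symm))
      · rw [hb, ← hgr] at hp
        exact hqr (pp_inj (PGroups.SmallExtraspecial.conj_inj hp.symm))
  have h12 : pp 1 * pp 2 = pp 2 * pp 1 := by rw [pp_mul, pp_mul]; rfl
  refine ⟨b * pp 2, X.mul_mem hbX (L.four_le ⟨2, rfl⟩), ?_, ?_, ?_, ?_, ?_⟩
  · rw [mul_assoc, ← h12, ← mul_assoc, hbc, mul_assoc]
  · rw [show b * pp 2 * (pp 2 * (b * pp 2 * pp 2)) = b * (pp 2 * pp 2) * (b * (pp 2 * pp 2)) by group,
      pp_sq, mul_one, hbb]
  · rw [Perm.mul_apply, L.pp_five, hb5]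
  · rw [Perm.mul_apply, show pp 2 (4 : Fin 16) = 1 by decide +kernel, hb1]
  · rw [Perm.mul_apply, show pp 2 (1 : Fin 16) = 4 by decide +kernel, ← hb5]
    exact congrArg (fun f : Perm (Fin 16) => f 5) hbb

/-- With a stabiliser of order 12 the orbit is not all fifteen points. -/
lemma not_fifteen {k : ℕ} (horb : ∀ i : Fin 16, (∃ g ∈ X, g 5 = i) ↔ (oMask k).testBit i.val = true)
    (hs : Nat.card (stab5 X) = 12) (h15 : selCard k = 15) (h1 : ∃ g ∈ X, g 5 = 1) : False := by
  obtain ⟨c, hc, hc3, e12, e23, e31⟩ := L.exists_cycle hs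
  obtain ⟨d, hd, hd1, hd2, hd5, hd4, hd11⟩ := L.exists_line hs h1
  have hX : Nat.card X = 180 := by rw [L.card_eq horb, h15, hs]
  have hcX := (mem_stab5.1 hc).1
  have hrel : ∀ {f : Perm (Fin 16)} {p q : Fin 4}, f * pp p = pp q * f → ∀ i, f (pp p i) = pp q (f i) :=
    fun h i => congrArg (fun k : Perm (Fin 16) => k i) h
  have b3 : pp 1 2 = 3 := by decide +kernel
  have b8 : pp 2 2 = 8 := by decide +kernel
  have b12 : pp 3 2 = 12 := by decide +kernel
  have b12' : pp 1 8 = 12 := by decide +kernel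
  have hcv : ∀ i : Fin 16, (c i).val = cMap (c 2).val i.val := by
    intro i
    rw [L.eq_linMap hcX, cMap, ← b3, hrel (mul_inv_eq_iff_eq_mul.1 e12) 2, ← b8,
      hrel (mul_inv_eq_iff_eq_mul.1 e23) 2, ← b12, hrel (mul_inv_eq_iff_eq_mul.1 e31) 2]
    rfl
  have hdv : ∀ i : Fin 16, (d i).val = dMap (d 2).val (d 8).val i.val := by
    intro i
    rw [L.eq_linMap hd, dMap, ← b12', hrel hd1 8, ← b3, hrel hd1 2]
    rfl
  have hB : cdB (c 2).val (d 2).val (d 8).val = true := by
    simp only [cdB, Bool.and_eq_true, List.all_eq_true, List.mem_range, beq_iff_eq]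
    refine ⟨⟨⟨⟨⟨?_, fun i hi => ?_⟩, ?_⟩, ?_⟩, ?_⟩, fun i hi => ?_⟩
    · rw [show (5 : ℕ) = (5 : Fin 16).val from rfl, ← hcv, (mem_stab5.1 hc).2]
    · rw [show i = (⟨i, hi⟩ : Fin 16).val from rfl, ← hcv, ← hcv, ← hcv]
      exact congrArg Fin.val (congrArg (fun f : Perm (Fin 16) => f ⟨i, hi⟩) hc3)
    · rw [show (5 : ℕ) = (5 : Fin 16).val from rfl, ← hdv, hd5]; rfl
    · rw [show (4 : ℕ) = (4 : Fin 16).val from rfl, ← hdv, hd4]; rfl
    · rw [show (1 : ℕ) = (1 : Fin 16).val from rfl, ← hdv, hd11]; rfl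
    · rw [show i = (⟨i, hi⟩ : Fin 16).val from rfl]
      rw [show pAct 2 (⟨i, hi⟩ : Fin 16).val = (pp 2 ⟨i, hi⟩).val from rfl, ← hdv,
        show pAct 2 (d (pp 2 ⟨i, hi⟩)).val = (pp 2 (d (pp 2 ⟨i, hi⟩))).val from rfl, ← hdv]
      exact congrArg Fin.val (congrArg (fun f : Perm (Fin 16) => f ⟨i, hi⟩) hd2)
  have hseven := cd_seven
  simp only [List.all_eq_true, List.mem_range, Bool.or_eq_true, Bool.not_eq_true'] at hseven
  rcases hseven _ (c 2).2 _ (d 2).2 _ (d 8).2 with h | h
  · rw [hB] at h; exact Bool.noConfusion h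
  simp only [Bool.and_eq_true, List.all_eq_true, List.mem_range, beq_iff_eq, Bool.not_eq_true'] at h
  have hg : ∀ i : Fin 16, ((c * d) i).val = cMap (c 2).val (dMap (d 2).val (d 8).val i.val) := fun i => by
    rw [Perm.mul_apply, hcv, hdv]
  have h7 : (c * d) ^ 7 = 1 := by
    refine Equiv.ext fun i => Fin.ext ?_
    simp only [pow_succ', pow_zero, mul_one]
    have := h.1 i.val i.2
    simp only [Perm.mul_apply, ← hdv, ← hcv] at this ⊢
    exact this
  have hne : c * d ≠ 1 := by
    intro e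
    have hall : ((List.range 16).all fun i => cMap (c 2).val (dMap (d 2).val (d 8).val i) == i) = true :=
      List.all_eq_true.2 fun i hi => beq_iff_eq.2 (by
        rw [show i = (⟨i, List.mem_range.1 hi⟩ : Fin 16).val from rfl, ← hg, e]; rfl)
    rw [hall] at h
    exact Bool.noConfusion h.2
  haveI : Fact (Nat.Prime 7) := ⟨by norm_num⟩
  have hd7 : 7 ∣ Nat.card X := orderOf_eq_prime h7 hne ▸ Subgroup.orderOf_dvd_natCard X (X.mul_mem hcX hd)
  rw [hX] at hd7
  norm_num at hd7

/-- The orbit when the stabiliser is the four-group. -/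
theorem sel_of_four {k : ℕ} (hk : k ∈ okSel)
    (horb : ∀ i : Fin 16, (∃ g ∈ X, g 5 = i) ↔ (oMask k).testBit i.val = true)
    (hs : Nat.card (stab5 X) = 4) : k ∈ [0, 1, 2, 4, 11, 13, 14, 19, 21, 22] := by
  have hcard := L.card_eq horb
  rw [hs] at hcard
  have hsel := selCard_vals
  simp only [List.map_cons, List.map_nil, List.cons.injEq, and_true] at hsel
  obtain ⟨-, -, -, -, s7, s8, -, -, -, s16, -, -, -, s31⟩ := hsel
  simp only [okSel, List.mem_cons, List.not_mem_nil, or_false] at hk ⊢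
  rcases hk with h | h | h | h | h | h | h | h | h | h | h | h | h | h <;> subst h <;> norm_num
  · rw [s7] at hcard
    refine L.no_prime (r := 7) (m := 4) (by norm_num) (by norm_num) hcard dvd_rfl (by norm_num) fun n hn h => ?_
    have := Nat.le_of_dvd (by norm_num) hn
    omega
  · rw [s8] at hcard
    refine L.no_prime (r := 5) (m := 4) (by norm_num) le_rfl hcard dvd_rfl (by norm_num) fun n hn h => ?_
    have := Nat.le_of_dvd (by norm_num) hn
    omega
  · rw [s16] at hcard
    refine L.no_prime (r := 5) (m := 4) (by norm_num) le_rfl hcard dvd_rfl (by norm_num) fun n hn h => ?_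
    have := Nat.le_of_dvd (by norm_num) hn
    omega
  · exact L.complement horb hs s31

/-- The orbit when the stabiliser has order twelve. -/
theorem sel_of_twelve {k : ℕ} (hk : k ∈ okSel)
    (horb : ∀ i : Fin 16, (∃ g ∈ X, g 5 = i) ↔ (oMask k).testBit i.val = true)
    (hs : Nat.card (stab5 X) = 12) : k ∈ [0, 8, 16] := by
  obtain ⟨c, hc, -, e12, e23, -⟩ := L.exists_cycle hs
  have hmove : ∀ i : Fin 16, (oMask k).testBit (c i).val = (oMask k).testBit i.val := by
    intro i
    rw [Bool.eq_iff_iff, ← horb, ← horb]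
    refine ⟨fun ⟨g, hg, e⟩ => ⟨c⁻¹ * g, X.mul_mem (X.inv_mem (mem_stab5.1 hc).1) hg, ?_⟩,
      fun ⟨g, hg, e⟩ => ⟨c * g, X.mul_mem (mem_stab5.1 hc).1 hg, by rw [Perm.mul_apply, e]⟩⟩
    rw [Perm.mul_apply, e, Perm.inv_def, Equiv.symm_apply_apply]
  have hk32 : k < 32 := (show ∀ a ∈ okSel, a < 32 by decide) k hk
  have hpairs := sel_pairs
  simp only [List.all_eq_true, List.mem_range, Bool.and_eq_true, beq_iff_eq] at hpairs
  obtain ⟨⟨q1, q10⟩, q11⟩ := hpairs k hk32
  have g12 : (oMask k).testBit 1 = (oMask k).testBit 10 := by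
    obtain ⟨h1, h2, h3⟩ := L.cycle_points hc (p := 1) (q := 2) (by decide) (by decide) e12
      (i := 1) (by decide +kernel) (by decide) (by decide)
    have key : ∀ i : Fin 16, pp 2 i = i → i ≠ 0 → i ≠ 5 → i = 10 ∨ i = 15 := by decide +kernel
    have := hmove 1
    rcases key _ h1 h2 h3 with e | e <;> rw [e] at this
    · exact this.symm
    · exact (q10.trans this).symm
  have g23 : (oMask k).testBit 10 = (oMask k).testBit 11 := by
    obtain ⟨h1, h2, h3⟩ := L.cycle_points hc (p := 2) (q := 3) (by decide) (by decide) e23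
      (i := 10) (by decide +kernel) (by decide) (by decide)
    have key : ∀ i : Fin 16, pp 3 i = i → i ≠ 0 → i ≠ 5 → i = 11 ∨ i = 14 := by decide +kernel
    have := hmove 10
    rcases key _ h1 h2 h3 with e | e <;> rw [e] at this
    · exact this.symm
    · exact (q11.trans this).symm
  have hcard := L.card_eq horb
  rw [hs] at hcard
  have hsel := selCard_vals
  simp only [List.map_cons, List.map_nil, List.cons.injEq, and_true] at hsel
  obtain ⟨-, -, -, -, s7, -, -, -, -, -, -, -, -, s31⟩ := hsel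
  have hpart := sel_partial
  simp only [List.all_eq_true, Bool.or_eq_true, Bool.not_eq_true', beq_eq_false_iff_ne] at hpart
  have hbad : k ∉ [1, 2, 4, 11, 13, 14, 19, 21, 22] := fun h => (hpart k h).elim (· g12) (· g23)
  simp only [okSel, List.mem_cons, List.not_mem_nil, or_false] at hk hbad ⊢
  rcases hk with h | h | h | h | h | h | h | h | h | h | h | h | h | h <;> subst h <;>
    first | omega | skip
  · exfalso
    rw [s7] at hcard
    refine L.no_prime (r := 7) (m := 12) (by norm_num) (by norm_num) hcard (by norm_num) (by norm_num) fun n hn h => ?_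
    have := Nat.le_of_dvd (by norm_num) hn
    interval_cases n <;> omega
  · exfalso
    exact L.not_fifteen horb hs s31 ((horb 1).2 oMask_one)

end Lin

end Cfsg.Agent.PGroups.AltEightSylow
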