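import Cfsg.Agent.PGroups.AltEightSylow.Facts
import Cfsg.Agent.PGroups.AltEightSylow.AltHom
import Cfsg.Agent.PGroups.SmallExtraspecial.Basic

/-!
Groups with the model as Sylow 2-subgroup; the elementary subgroup of order 16 is weakly closed.
-/

set_option autoImplicit false
set_option linter.style.haveILetI false

namespace Cfsg.Agent.PGroups.AltEightSylow

open Subgroup PGroups.SmallExtraspecial

/-- The model embedded as a Sylow 2-subgroup. -/
structure Emb (G : Type*) [Group G] where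
  /-- the embedding -/
  hom : M64 →* G
  inj : Function.Injective hom
  maxl : ∀ P : Subgroup G, IsPGroup 2 P → hom.range ≤ P → P = hom.range

/-- An elementary abelian subgroup of order 16. -/
def IsE16 {G : Type*} [Group G] (F : Subgroup G) : Prop := Nat.card F = 16 ∧ ∀ a ∈ F, a * a = 1

variable {G : Type*} [Group G]

lemma IsE16.comm {F : Subgroup G} (h : IsE16 F) {a b : G} (ha : a ∈ F) (hb : b ∈ F) : a * b = b * a := by
  calc a * b = (a * b)⁻¹ := (inv_eq_of_mul_eq_one_right (h.2 _ (mul_mem ha hb))).symm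
    _ = b * a := by
      rw [_root_.mul_inv_rev, inv_eq_of_mul_eq_one_right (h.2 a ha), inv_eq_of_mul_eq_one_right (h.2 b hb)]

lemma IsE16.conj {F : Subgroup G} (h : IsE16 F) (g : G) : IsE16 (F.map (MulAut.conj g).toMonoidHom) := by
  refine ⟨by rw [card_map_of_injective (MulEquiv.injective _)]; exact h.1, ?_⟩
  rintro _ ⟨a, ha, rfl⟩
  show g * a * g⁻¹ * (g * a * g⁻¹) = 1
  rw [show g * a * g⁻¹ * (g * a * g⁻¹) = g * (a * a) * g⁻¹ by group, h.2 a ha]
  group

/-- The hypothesis of S2918 gives an embedding. -/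
theorem exists_emb (S : Sylow 2 G)
    (hS : ∀ P : Sylow 2 (alternatingGroup (Fin 8)),
      Nonempty ((S : Subgroup G) ≃* (P : Subgroup (alternatingGroup (Fin 8))))) :
    ∃ d : Emb G, d.hom.range = (S : Subgroup G) := by
  obtain ⟨P, ⟨e⟩⟩ := exists_equiv
  obtain ⟨f⟩ := hS P
  have hr : ((S : Subgroup G).subtype.comp (e.trans f.symm).toMonoidHom).range = (S : Subgroup G) := by
    rw [MonoidHom.range_eq_map, ← map_map, ← MonoidHom.range_eq_map,
      MonoidHom.range_eq_top.2 (e.trans f.symm).surjective, ← MonoidHom.range_eq_map, range_subtype]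
  exact ⟨{ hom := (S : Subgroup G).subtype.comp (e.trans f.symm).toMonoidHom
           inj := (S : Subgroup G).subtype_injective.comp (e.trans f.symm).injective
           maxl := fun Q hQ hle => by rw [hr] at hle ⊢; exact S.is_maximal' hQ hle }, hr⟩

namespace Emb

variable (d : Emb G)

/-- The image of the model. -/
abbrev T : Subgroup G := d.hom.range

/-- The central involution. -/
def z : G := d.hom M64.z

/-- The elementary subgroup of order 16. -/
def E : Subgroup G := M64.subE.map d.hom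

lemma E_le : d.E ≤ d.T := map_le_range _ _

lemma mem_T (x : M64) : d.hom x ∈ d.T := ⟨x, rfl⟩

lemma hom_mem_E {x : M64} : d.hom x ∈ d.E ↔ (x.lab : ℕ) < 16 := by
  rw [E, mem_map_iff_mem d.inj]; exact M64.mem_subE

lemma isE16_E : IsE16 d.E := by
  refine ⟨by rw [E, card_map_of_injective d.inj, M64.card_subE], ?_⟩
  rintro _ ⟨x, hx, rfl⟩
  rw [← map_mul, M64.subE_sq hx, map_one]

lemma z_mem : d.z ∈ d.E := d.hom_mem_E.2 (by rw [M64.z_lab]; norm_num)

lemma z_order : orderOf d.z = 2 :=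
  two_iff.2 ⟨by rw [z, ← map_mul, M64.z_sq, map_one],
    fun h => M64.z_ne (d.inj (h.trans (map_one _).symm))⟩

lemma z_comm {t : G} (ht : t ∈ d.T) : t * d.z = d.z * t := by
  obtain ⟨x, rfl⟩ := ht
  rw [z, ← map_mul, ← map_mul, M64.z_comm]

lemma T_normalizes : d.T ≤ normalizer (d.E : Set G) := by
  rintro _ ⟨x, rfl⟩
  have h : ∀ g : M64, ∀ a ∈ d.E, d.hom g * a * (d.hom g)⁻¹ ∈ d.E := by
    rintro g _ ⟨a, ha, rfl⟩
    exact ⟨g * a * g⁻¹, M64.subE_normal.conj_mem a ha g, by simp⟩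
  refine mem_normalizer_iff.2 fun a => ⟨h x a, fun ha => ?_⟩
  have := h x⁻¹ _ ha
  rwa [map_inv, inv_inv, show (d.hom x)⁻¹ * (d.hom x * a * (d.hom x)⁻¹) * d.hom x = a by group] at this

lemma card_T : Nat.card d.T = 64 := by
  rw [← Nat.card_congr (MonoidHom.ofInjective d.inj).toEquiv, M64.card_eq]

lemma isPGroup_T : IsPGroup 2 d.T := IsPGroup.of_card (n := 6) (by rw [d.card_T]; norm_num)

variable [Finite G]

/-- The Sylow subgroup. -/
noncomputable def sylow : Sylow 2 G :=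
  { toSubgroup := d.T
    isPGroup' := d.isPGroup_T
    is_maximal' := fun hQ hle => d.maxl _ hQ hle }

lemma exists_conj_le {P : Subgroup G} (hP : IsPGroup 2 P) :
    ∃ g : G, ∀ x ∈ P, g * x * g⁻¹ ∈ d.T := by
  haveI : Fact (Nat.Prime 2) := ⟨Nat.prime_two⟩
  obtain ⟨Q, hQ⟩ := hP.exists_le_sylow
  obtain ⟨g, hg⟩ := MulAction.exists_smul_eq G Q d.sylow
  refine ⟨g, fun x hx => ?_⟩
  have : g * x * g⁻¹ ∈ ((g • Q : Sylow 2 G) : Subgroup G) :=
    smul_mem_pointwise_smul x (MulAut.conj g) _ (hQ hx)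
  rw [hg] at this
  exact this

lemma eq_E {F : Subgroup G} (hF : IsE16 F) (hle : F ≤ d.T) : F = d.E := by
  have h : F.comap d.hom = M64.subE := by
    refine M64.mem_of_full (fun x hx => d.inj ?_) ?_
    · rw [map_mul, map_one]; exact hF.2 _ hx
    · rw [← card_map_of_injective d.inj, map_comap_eq, inf_eq_right.2 hle, hF.1]
  rw [E, ← h, map_comap_eq, inf_eq_right.2 hle]

include d in
/-- A 2-subgroup contains at most one elementary abelian subgroup of order 16. -/
theorem unique16 {P F₁ F₂ : Subgroup G} (hP : IsPGroup 2 P) (h₁ : IsE16 F₁) (h₂ : IsE16 F₂)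
    (l₁ : F₁ ≤ P) (l₂ : F₂ ≤ P) : F₁ = F₂ := by
  obtain ⟨g, hg⟩ := d.exists_conj_le hP
  refine map_injective (f := (MulAut.conj g).toMonoidHom) (MulEquiv.injective (MulAut.conj g)) ?_
  exact (d.eq_E (h₁.conj g) (by rintro _ ⟨a, ha, rfl⟩; exact hg a (l₁ ha))).trans
    (d.eq_E (h₂.conj g) (by rintro _ ⟨a, ha, rfl⟩; exact hg a (l₂ ha))).symm

/-- Fusion in the weakly closed abelian subgroup is controlled by its normaliser. -/
theorem fusion_E {H : Subgroup G} (hEH : d.E ≤ H) {a g : G} (hg : g ∈ H) (ha : a ∈ d.E)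
    (hb : g * a * g⁻¹ ∈ d.E) :
    ∃ n ∈ H, n ∈ normalizer (d.E : Set G) ∧ n * a * n⁻¹ = g * a * g⁻¹ := by
  haveI : Fact (Nat.Prime 2) := ⟨Nat.prime_two⟩
  set b := g * a * g⁻¹ with hbdef
  set K := H ⊓ centralizer ({b} : Set G) with hK
  set F := d.E.map (MulAut.conj g).toMonoidHom with hF
  have hEK : d.E ≤ K := fun e he => ⟨hEH he, mem_centralizer_singleton_iff.2 (d.isE16_E.comm he hb)⟩
  have hFK : F ≤ K := by
    rintro _ ⟨e, he, rfl⟩
    exact ⟨H.mul_mem (H.mul_mem hg (hEH he)) (H.inv_mem hg),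
      mem_centralizer_singleton_iff.2 (conj_comm_iff.2 (d.isE16_E.comm he ha))⟩
  have hE2 : IsPGroup 2 d.E := IsPGroup.of_card (n := 4) (by rw [d.isE16_E.1]; norm_num)
  have hF2 : IsPGroup 2 F := IsPGroup.of_card (n := 4) (by rw [(d.isE16_E.conj g).1]; norm_num)
  obtain ⟨P, hP⟩ := (hE2.comap_subtype (K := K)).exists_le_sylow
  obtain ⟨Q, hQ⟩ := (hF2.comap_subtype (K := K)).exists_le_sylow
  obtain ⟨c, hc⟩ := MulAction.exists_smul_eq K Q P
  have he := d.unique16 (P.isPGroup'.map K.subtype) ((d.isE16_E.conj g).conj (c : G)) d.isE16_E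
    (by
      rintro _ ⟨y, hy, rfl⟩
      refine ⟨c * ⟨y, hFK hy⟩ * c⁻¹, ?_, by simp⟩
      rw [← hc]
      exact smul_mem_pointwise_smul _ (MulAut.conj c) _ (hQ hy))
    (fun e he => ⟨⟨e, hEK he⟩, hP he, rfl⟩)
  have hcb : (c : G) * b = b * c := mem_centralizer_singleton_iff.1 c.2.2
  refine ⟨c * g, H.mul_mem c.2.1 hg, mem_normalizer_of_conj_mem fun e he' => ?_, ?_⟩
  · rw [← he]
    exact ⟨g * e * g⁻¹, ⟨e, he', rfl⟩, by simp [mul_assoc]⟩
  · rw [show (c : G) * g * a * ((c : G) * g)⁻¹ = c * b * (c : G)⁻¹ by rw [hbdef]; group, hcb,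
      mul_inv_cancel_right]

end Emb

end Cfsg.Agent.PGroups.AltEightSylow
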