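import Cfsg.Agent.PGroups.AltEightSylow.Model

/-!
Finite facts about the model of the Sylow 2-subgroup of the alternating group of degree eight.
-/

set_option autoImplicit false

namespace Cfsg.Agent.PGroups.AltEightSylow

/-- The label is an involution or the identity. -/
def sqB (x : ℕ) : Bool := mulN x x == 0

/-- Commuting labels. -/
def cmB (x y : ℕ) : Bool := mulN x y == mulN y x

/-- The number of involutions (and the identity) commuting with a label. -/
def invCent (x : ℕ) : ℕ := (List.range 64).countP fun y => sqB y && cmB x y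

/-- The involutions outside the subgroup of order 16. -/
def outer : List ℕ := [16, 17, 20, 21, 32, 37, 42, 47, 48, 53, 59, 62]

lemma invCent_outer : (outer.all fun x => Nat.blt (invCent x) 16) = true := by
  decide +kernel

lemma invol_cases : ((List.range 64).all fun x => !sqB x || Nat.blt x 16 || outer.contains x) = true := by
  decide +kernel

lemma center_labs : ((List.range 64).all fun x =>
    !(cmB x 1 && cmB x 2 && cmB x 16 && cmB x 32) || x == 0 || x == 5) = true := by
  decide +kernel

lemma z_central : ((List.range 64).all fun x => cmB x 5) = true := by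
  decide +kernel

lemma E_sq : ((List.range 16).all fun x => sqB x && (List.range 64).all fun g => Nat.blt (conjN g x) 16) = true := by
  decide +kernel

namespace M64

lemma sqB_iff {x : M64} : sqB x.lab = true ↔ x * x = 1 := by
  rw [sqB, beq_iff_eq, ← mul_lab, ← one_lab]
  exact ⟨fun h => ext' h, fun h => by rw [h]⟩

lemma cmB_iff {x y : M64} : cmB x.lab y.lab = true ↔ x * y = y * x := by
  rw [cmB, beq_iff_eq, ← mul_lab, ← mul_lab]
  exact ⟨fun h => ext' h, fun h => by rw [h]⟩

lemma of_lab_val {n : ℕ} (h : n < 64) : ((of n).lab : ℕ) = n := Nat.mod_eq_of_lt h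

lemma z_comm (x : M64) : x * z = z * x := by
  have h := z_central
  simp only [List.all_eq_true, List.mem_range] at h
  exact cmB_iff.1 (z_lab ▸ h _ x.lab.isLt)

lemma z_ne : z ≠ 1 := fun h => by
  have : (5 : ℕ) = 0 := z_lab ▸ one_lab ▸ congrArg (fun x : M64 => (x.lab : ℕ)) h
  omega

lemma z_sq : z * z = 1 := sqB_iff.1 (by rw [z_lab]; decide)

lemma center_cases {x : M64} (h : ∀ y, x * y = y * x) : x = 1 ∨ x = z := by
  have hc := center_labs
  simp only [List.all_eq_true, List.mem_range, Bool.or_eq_true, Bool.not_eq_true', beq_iff_eq] at hc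
  rcases hc _ x.lab.isLt with (h0 | h0) | h0
  · exfalso
    have e : ∀ n < 64, cmB x.lab n = true := fun n hn => by
      have := cmB_iff.2 (h (of n))
      rwa [of_lab_val hn] at this
    rw [e 1 (by norm_num), e 2 (by norm_num), e 16 (by norm_num), e 32 (by norm_num)] at h0
    exact absurd h0 (by decide)
  · exact Or.inl (ext' (h0.trans one_lab.symm))
  · exact Or.inr (ext' (h0.trans z_lab.symm))

lemma invol_lab {x : M64} (hx : x * x = 1) : (x.lab : ℕ) < 16 ∨ (x.lab : ℕ) ∈ outer := by
  have h := invol_cases
  simp only [List.all_eq_true, List.mem_range, Bool.or_eq_true, Bool.not_eq_true', Nat.blt_eq,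
    List.contains_iff_mem] at h
  rcases h _ x.lab.isLt with (h0 | h0) | h0
  · exact absurd (sqB_iff.2 hx) (by rw [h0]; exact Bool.false_ne_true)
  · exact Or.inl h0
  · exact Or.inr h0

/-- The elementary subgroup of order 16. -/
def subE : Subgroup M64 where
  carrier := {x | (x.lab : ℕ) < 16}
  one_mem' := by show ((1 : M64).lab : ℕ) < 16; rw [one_lab]; norm_num
  mul_mem' := by
    intro x y hx hy
    show ((x * y).lab : ℕ) < 16
    rw [mul_lab, mulN, Nat.div_eq_of_lt hx, Nat.div_eq_of_lt hy]
    simp only [Nat.xor_self, mul_zero, add_zero]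
    exact Nat.xor_lt_two_pow (n := 4) (Nat.mod_lt _ (by norm_num)) (act_lt (by norm_num) (Nat.mod_lt _ (by norm_num)))
  inv_mem' := by
    intro x hx
    show ((x⁻¹).lab : ℕ) < 16
    rw [inv_lab, invN, Nat.div_eq_of_lt hx, mul_zero, add_zero]
    exact act_lt (by norm_num) (Nat.mod_lt _ (by norm_num))

lemma mem_subE {x : M64} : x ∈ subE ↔ (x.lab : ℕ) < 16 := Iff.rfl

lemma subE_sq {x : M64} (hx : x ∈ subE) : x * x = 1 := by
  have h := E_sq
  simp only [List.all_eq_true, List.mem_range, Bool.and_eq_true] at h
  exact sqB_iff.1 (h _ (mem_subE.1 hx)).1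

instance subE_normal : subE.Normal := ⟨fun x hx g => by
  have h := E_sq
  simp only [List.all_eq_true, List.mem_range, Bool.and_eq_true, Nat.blt_eq] at h
  rw [mem_subE, conj_lab]
  exact (h _ (mem_subE.1 hx)).2 _ g.lab.isLt⟩

lemma z_mem_subE : z ∈ subE := by rw [mem_subE, z_lab]; norm_num

lemma card_subE : Nat.card subE = 16 := by
  let e : subE ≃ Fin 16 :=
    { toFun := fun x => ⟨x.1.lab, mem_subE.1 x.2⟩
      invFun := fun i => ⟨of i, mem_subE.2 (by rw [of_lab_val (by omega)]; exact i.2)⟩
      left_inv := fun x => Subtype.ext (of_lab x.1)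
      right_inv := fun i => Fin.ext (of_lab_val (by omega)) }
  rw [Nat.card_congr e, Nat.card_fin]

lemma mem_of_full {F : Subgroup M64} (hsq : ∀ x ∈ F, x * x = 1) (hc : Nat.card F = 16) : F = subE := by
  refine Subgroup.eq_of_le_of_card_ge (fun x hx => ?_) (by rw [card_subE, hc])
  rcases invol_lab (hsq x hx) with h | h
  · exact h
  exfalso
  have hb := invCent_outer
  simp only [List.all_eq_true, Nat.blt_eq] at hb
  have hlt := hb _ h
  rw [invCent] at hlt
  have hle : Nat.card F ≤ ((List.range 64).filter fun y => sqB y && cmB x.lab y).toFinset.card := by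
    classical
    rw [← Fintype.card_eq_nat_card, ← Finset.card_univ]
    refine Finset.card_le_card_of_injOn (fun y => ((y : M64).lab : ℕ)) (fun y _ => ?_) (fun a _ b _ hab => ?_)
    · have hxy : x * (y : M64) = y * x := by
        calc x * (y : M64) = (x * y)⁻¹ := (inv_eq_of_mul_eq_one_right (hsq _ (F.mul_mem hx y.2))).symm
          _ = y * x := by
            rw [mul_inv_rev, inv_eq_of_mul_eq_one_right (hsq x hx), inv_eq_of_mul_eq_one_right (hsq _ y.2)]
      simp [sqB_iff.2 (hsq _ y.2), cmB_iff.2 hxy]
    · exact Subtype.ext (ext' hab)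
  rw [List.card_toFinset, List.dedup_eq_self.2 (List.Nodup.filter _ List.nodup_range),
    ← List.countP_eq_length_filter, hc] at hle
  omega

end M64

end Cfsg.Agent.PGroups.AltEightSylow
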