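import Cfsg.Agent.PGroups.AltEightSylow.Facts

/-!
Finite facts about centralisers and commutators in the model.
-/

set_option autoImplicit false

namespace Cfsg.Agent.PGroups.AltEightSylow

open Subgroup

/-- The commutator on labels. -/
def comN (a b : ℕ) : ℕ := mulN (conjN a b) (invN b)

/-- The labels commuting with a given one. -/
def centL (x : ℕ) : List ℕ := (List.range 64).filter fun a => cmB a x

/-- The identity, the central label and the six labels fixed by an involution of the complement. -/
def sixZ : List ℕ := [0, 1, 4, 5, 10, 11, 14, 15]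

lemma z_comm_cent : (outer.all fun x => (centL x).any fun a => (centL x).any fun b => comN a b == 5) = true := by
  decide +kernel

lemma comm_outer : (outer.all fun x => (centL x).all fun a => (centL x).all fun b =>
    comN a b == 0 || comN a b == 5) = true := by
  decide +kernel

lemma comm_cases : ((List.range 64).all fun x => !sqB x || sixZ.contains x ||
    (centL x).all fun a => (centL x).all fun b => !(comN a b == x)) = true := by
  decide +kernel

lemma cent_outer : (outer.all fun x => (centL x).length == 16 && !(Nat.blt x 16)) = true := by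
  decide +kernel

lemma cent_six : ([1, 4, 10, 11, 14, 15].all fun x => (centL x).length == 32) = true := by
  decide +kernel

lemma outer_comm_E : (outer.all fun x => (List.range 16).all fun a => !(cmB x a) || a == 0 || a == 5 ||
    (List.range 3).any fun i => (mV i).testBit x && (mV i).testBit a) = true := by
  decide +kernel

lemma outer_mV : (outer.all fun x => (List.range 3).any fun i =>
    (mV i).testBit x && (mV i).testBit ([1, 10, 11].getD i 0)) = true := by
  decide +kernel

namespace M64

lemma comm_lab (a b : M64) : ((a * b * a⁻¹ * b⁻¹).lab : ℕ) = comN a.lab b.lab := by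
  rw [mul_lab, conj_lab, inv_lab, comN]

lemma mem_centL {a x : M64} : (a.lab : ℕ) ∈ centL x.lab ↔ a * x = x * a := by
  rw [centL, List.mem_filter, List.mem_range, cmB_iff]
  exact and_iff_right a.lab.isLt

lemma card_cent (x : M64) : Nat.card (centralizer ({x} : Set M64)) = (centL x.lab).length := by
  classical
  rw [← List.toFinset_card_of_nodup (show (centL x.lab).Nodup from List.nodup_range.filter _),
    ← Fintype.card_eq_nat_card, ← Finset.card_univ]
  refine Finset.card_bij (fun a _ => ((a : M64).lab : ℕ)) (fun a _ => ?_) (fun a _ b _ h => ?_) (fun n hn => ?_)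
  · rw [List.mem_toFinset]; exact mem_centL.2 (mem_centralizer_singleton_iff.1 a.2)
  · exact Subtype.ext (ext' h)
  · rw [List.mem_toFinset] at hn
    have hn64 : n < 64 := List.mem_range.1 (List.mem_filter.1 hn).1
    exact ⟨⟨of n, mem_centralizer_singleton_iff.2 (mem_centL.1 (by rw [of_lab_val hn64]; exact hn))⟩,
      Finset.mem_univ _, of_lab_val hn64⟩

lemma card_cent_outer {x : M64} (hx : (x.lab : ℕ) ∈ outer) : Nat.card (centralizer ({x} : Set M64)) = 16 := by
  have h := cent_outer
  simp only [List.all_eq_true, Bool.and_eq_true, beq_iff_eq] at h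
  rw [card_cent]; exact (h _ hx).1

lemma card_cent_six {x : M64} (hx : (x.lab : ℕ) ∈ [1, 4, 10, 11, 14, 15]) :
    Nat.card (centralizer ({x} : Set M64)) = 32 := by
  have h := cent_six
  simp only [List.all_eq_true, beq_iff_eq] at h
  rw [card_cent]; exact h _ hx

lemma outer_not_subE {x : M64} (hx : (x.lab : ℕ) ∈ outer) : x ∉ subE := by
  have key : ∀ n ∈ outer, ¬ n < 16 := by decide
  exact fun h' => key _ hx (mem_subE.1 h')

lemma outer_sq {x : M64} (hx : (x.lab : ℕ) ∈ outer) : x * x = 1 := by
  have h : (outer.all fun x => sqB x) = true := by decide +kernel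
  simp only [List.all_eq_true] at h
  exact sqB_iff.1 (h _ hx)

lemma exists_z_comm {x : M64} (hx : (x.lab : ℕ) ∈ outer) :
    ∃ a b : M64, a * x = x * a ∧ b * x = x * b ∧ a * b * a⁻¹ * b⁻¹ = z := by
  have h := z_comm_cent
  simp only [List.all_eq_true, List.any_eq_true, beq_iff_eq] at h
  obtain ⟨a, ha, b, hb, hab⟩ := h _ hx
  have ha64 : a < 64 := List.mem_range.1 (List.mem_filter.1 ha).1
  have hb64 : b < 64 := List.mem_range.1 (List.mem_filter.1 hb).1
  refine ⟨of a, of b, mem_centL.1 (by rw [of_lab_val ha64]; exact ha),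
    mem_centL.1 (by rw [of_lab_val hb64]; exact hb), ext' ?_⟩
  rw [comm_lab, of_lab_val ha64, of_lab_val hb64, hab, z_lab]

lemma comm_of_outer {x a b : M64} (hx : (x.lab : ℕ) ∈ outer) (ha : a * x = x * a) (hb : b * x = x * b) :
    a * b * a⁻¹ * b⁻¹ = 1 ∨ a * b * a⁻¹ * b⁻¹ = z := by
  have h := comm_outer
  simp only [List.all_eq_true, Bool.or_eq_true, beq_iff_eq] at h
  exact (h _ hx _ (mem_centL.2 ha) _ (mem_centL.2 hb)).imp
    (fun e => ext' (by rw [comm_lab, e, one_lab])) (fun e => ext' (by rw [comm_lab, e, z_lab]))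

lemma comm_six {x a b : M64} (hx : x * x = 1) (ha : a * x = x * a) (hb : b * x = x * b)
    (hab : a * b * a⁻¹ * b⁻¹ = x) : (x.lab : ℕ) ∈ sixZ := by
  have h := comm_cases
  simp only [List.all_eq_true, Bool.or_eq_true, Bool.not_eq_true', List.mem_range, List.contains_iff_mem,
    beq_eq_false_iff_ne] at h
  refine ((h _ x.lab.isLt).resolve_right fun hall => hall _ (mem_centL.2 ha) _ (mem_centL.2 hb) ?_).resolve_left
    fun hs => ?_
  · rw [← comm_lab, hab]
  · rw [sqB_iff.2 hx] at hs; exact Bool.noConfusion hs

lemma comm_E_cases {x a : M64} (hx : (x.lab : ℕ) ∈ outer) (ha : (a.lab : ℕ) < 16) (h : x * a = a * x) :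
    a = 1 ∨ a = z ∨ ∃ i < 3, inMask (mV i) x ∧ inMask (mV i) a := by
  have h0 := outer_comm_E
  simp only [List.all_eq_true, Bool.or_eq_true, Bool.not_eq_true', List.mem_range, List.any_eq_true,
    Bool.and_eq_true, beq_iff_eq] at h0
  rcases h0 _ hx _ ha with ((e | e) | e) | e
  · rw [cmB_iff.2 h] at e; exact Bool.noConfusion e
  · exact Or.inl (ext' (e.trans one_lab.symm))
  · exact Or.inr (Or.inl (ext' (e.trans z_lab.symm)))
  · exact Or.inr (Or.inr e)

end M64

end Cfsg.Agent.PGroups.AltEightSylow
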