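import Cfsg.Agent.PGroups.AltEightSylow.Cases

/-!
The centraliser of an involution of `E` which is no conjugate of the central one: a subgroup of index two
with Sylow 2-subgroup `E`.
-/

set_option autoImplicit false
set_option linter.style.haveILetI false

namespace Cfsg.Agent.PGroups.AltEightSylow

open Subgroup PGroups.SmallExtraspecial

variable {G : Type*} [Group G]

lemma six_outer : (sixL.all fun a => outer.any fun x => cmB a x) = true := by
  decide +kernel

lemma six_inSix : (sixL.all fun a => (List.range 3).any fun i =>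
    (mV i).testBit a && !(a == 0) && !(a == 5)) = true := by
  decide +kernel

lemma six_count : ∀ i : Fin 3, Fintype.card {t : Fin 64 // (mV i).testBit t.val = true ∧ t ≠ 0 ∧ t ≠ 5} = 6 := by
  decide +kernel

lemma six_count_all : Fintype.card {t : Fin 64 // (∃ i : Fin 3, (mV i).testBit t.val = true) ∧ t ≠ 0 ∧ t ≠ 5} = 18 := by
  decide +kernel

lemma inSix_of {i : ℕ} {t : Fin 64} (h : (mV i).testBit t.val = true) (h0 : t ≠ 0) (h5 : t ≠ 5) :
    InSix i (⟨t⟩ : M64) :=
  ⟨h, fun e => h0 (congrArg M64.lab e), fun e => h5 (congrArg M64.lab e)⟩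

lemma inSix_six {n : ℕ} (hn : n ∈ sixL) : ∃ i : Fin 3, InSix i (M64.of n) := by
  have h := six_inSix
  simp only [List.all_eq_true, List.any_eq_true, List.mem_range, Bool.and_eq_true, Bool.not_eq_true',
    beq_eq_false_iff_ne] at h
  obtain ⟨i, hi, ⟨hb, h0⟩, h5⟩ := h n hn
  have hn64 : n < 64 := (show ∀ n ∈ sixL, n < 64 by decide) n hn
  refine ⟨⟨i, hi⟩, by rw [inMask, M64.of_lab_val hn64]; exact hb, fun e => h0 ?_, fun e => h5 ?_⟩
  · rw [← M64.of_lab_val hn64, e, M64.one_lab]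
  · rw [← M64.of_lab_val hn64, e, M64.z_lab]

namespace Emb

variable (d : Emb G)

/-- Elements of `E` commuting with a conjugate of `z` outside `E` are conjugates of `z` or trivial. -/
def Good : Prop :=
  ∀ x : M64, (x.lab : ℕ) ∈ outer → IsConj d.z (d.hom x) → ∀ y ∈ d.E, y ≠ 1 →
    y * d.hom x = d.hom x * y → IsConj d.z y

variable [Finite G]

/-- The centraliser of `a` modulo core normalises `E`. -/
def CentNorm (a : Fin 16) : Prop :=
  ∀ c : d.Kz, c * d.dK.el a = d.dK.el a * c → c ∈ normalizer (d.dK.E : Set d.Kz)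

omit [Finite G] in
lemma good_of_zInE (h : d.ZInE) : d.Good := fun x hx hc _ _ _ _ =>
  absurd (d.hom_mem_E.1 (h _ (d.mem_T x) hc)) (fun hlt => M64.outer_not_subE hx (M64.mem_subE.2 hlt))

theorem centNorm_of_normal (hn : ∀ k : d.Kz, k ∈ normalizer (d.dK.E : Set d.Kz)) (a : Fin 16) :
    d.CentNorm a :=
  fun c _ => hn c

omit [Finite G] in
/-- An element with many conjugates has a small centraliser. -/
lemma centralizer_le_T {K : Type*} [Group K] [Finite K] (e : Emb K) {a : Fin 16} (ha : a.val ∈ sixL)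
    {α : Type*} [Fintype α] (f : α → K) (hf : Function.Injective f) (hconj : ∀ t, IsConj (e.el a) (f t))
    (hcard : Nat.card K ≤ 32 * Fintype.card α) : centralizer ({e.el a} : Set K) ≤ e.T := by
  classical
  set C := centralizer ({e.el a} : Set K) with hC
  have hk : ∀ t, ∃ c : K, c * e.el a * c⁻¹ = f t := fun t => isConj_iff.1 (hconj t)
  choose c hc using hk
  have hinj : Function.Injective (fun t => (c t : K ⧸ C)) := fun t t' h => hf (by
    rw [← hc, ← hc]
    have h1 := mem_centralizer_singleton_iff.1 (QuotientGroup.eq.1 h)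
    calc c t * e.el a * (c t)⁻¹ = c t * (e.el a * ((c t)⁻¹ * c t')) * (c t')⁻¹ := by group
      _ = c t' * e.el a * (c t')⁻¹ := by rw [← h1]; group)
  have hidx : Fintype.card α ≤ C.index := by
    rw [index_eq_card, ← Nat.card_eq_fintype_card]; exact Nat.card_le_card_of_injective _ hinj
  have hle : e.cT (M64.of a.val) ≤ C := fun x hx => mem_centralizer_singleton_iff.2 (e.cT_comm hx)
  have h32 : Nat.card (e.cT (M64.of a.val)) = 32 := by
    rw [e.card_cT, M64.card_cent_six (by rw [M64.of_lab_val (by omega)]; exact ha)]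
  have h3 : Nat.card C ≤ 32 := by
    by_contra hlt
    rcases Nat.eq_zero_or_pos (Fintype.card α) with h0 | h0
    · rw [h0, Nat.mul_zero] at hcard
      exact Nat.card_pos.ne' (Nat.le_zero.1 hcard)
    · have := Nat.mul_le_mul (Nat.lt_of_not_le hlt).nat_succ_le hidx
      rw [C.card_mul_index, Nat.succ_mul] at this
      omega
  rw [← Subgroup.eq_of_le_of_card_ge hle (by rw [h32]; exact h3)]
  exact e.cT_le_T _

theorem centNorm_alt (hs : d.dK.ShapeAlt) {a : Fin 16} (ha : a.val ∈ sixL) : d.CentNorm a := by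
  obtain ⟨i, hi⟩ := inSix_six ha
  intro c hc
  refine d.dK.T_normalizes (centralizer_le_T d.dK ha
    (fun t : {t : Fin 64 // (mV i).testBit t.val = true ∧ t ≠ 0 ∧ t ≠ 5} => d.dK.hom ⟨t.1⟩)
    (fun t t' h => Subtype.ext (congrArg M64.lab (d.dK.inj h)))
    (fun t => hs.six_fused i i.2 _ _ hi (inSix_of t.2.1 t.2.2.1 t.2.2.2))
    (by rw [hs.card, six_count]) (mem_centralizer_singleton_iff.2 hc))

theorem centNorm_sp (hs : d.dK.ShapeSp) {a : Fin 16} (ha : a.val ∈ sixL) : d.CentNorm a := by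
  obtain ⟨i, hi⟩ := inSix_six ha
  intro c hc
  refine d.dK.T_normalizes (centralizer_le_T d.dK ha
    (fun t : {t : Fin 64 // (∃ i : Fin 3, (mV i).testBit t.val = true) ∧ t ≠ 0 ∧ t ≠ 5} => d.dK.hom ⟨t.1⟩)
    (fun t t' h => Subtype.ext (congrArg M64.lab (d.dK.inj h)))
    (fun t => by
      obtain ⟨j, hj⟩ := t.2.1
      exact hs.six_fused i i.2 j j.2 _ _ hi (inSix_of hj t.2.2.1 t.2.2.2))
    (by rw [hs.card, six_count_all]) (mem_centralizer_singleton_iff.2 hc))

/-- In the alternating shape the six elements of each subgroup of order 8 outside the centre are fused. -/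
theorem good_alt (hs : d.dK.ShapeAlt) : d.Good := by
  intro x hx hc y hy hy1 hcomm
  obtain ⟨a, ha, rfl⟩ := hy
  rw [← map_mul, ← map_mul] at hcomm
  rcases M64.comm_E_cases hx (M64.mem_subE.1 ha) (d.inj hcomm).symm with e | e | ⟨i, hi, hix, hia⟩
  · exact absurd (by rw [e, map_one]) hy1
  · rw [e]; exact IsConj.refl _
  · by_cases hz : a = M64.z
    · rw [hz]; exact IsConj.refl _
    have hxE := M64.outer_not_subE hx
    obtain ⟨c, -, hce⟩ := d.exists_conj_of_dK (M64.outer_sq hx) (M64.subE_sq ha)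
      (hs.six_fused i hi x a ⟨hix, fun e => hxE (e ▸ M64.subE.one_mem), fun e => hxE (e ▸ M64.z_mem_subE)⟩
        ⟨hia, fun e => hy1 (by rw [e, map_one]), hz⟩)
    exact hc.trans (isConj_iff.2 ⟨c, hce⟩)

/-- A subgroup of index two in the centraliser of `a`, with Sylow 2-subgroup `E`. -/
structure Kernel (a : Fin 16) (M : Subgroup G) : Prop where
  le : M ≤ centralizer ({d.el a} : Set G)
  E_le : d.E ≤ M
  maxl : ∀ P : Subgroup G, IsPGroup 2 P → d.E ≤ P → P ≤ M → P = d.E
  index : (M.subgroupOf (centralizer ({d.el a} : Set G))).index = 2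

theorem exists_kernel (hgood : d.Good) {a : Fin 16} (ha : a.val ∈ sixL) (hz : ¬ IsConj d.z (d.el a))
    (hc : d.CentNorm a) : ∃ M, d.Kernel a M := by
  haveI : Fact (Nat.Prime 2) := ⟨Nat.prime_two⟩
  set H := centralizer ({d.el a} : Set G) with hH
  set S := d.cT (M64.of a.val) with hS
  have hSH : S ≤ H := fun x hx => mem_centralizer_singleton_iff.2 (d.cT_comm hx)
  have h32 : Nat.card S = 32 := by
    rw [hS, d.card_cT, M64.card_cent_six (by rw [M64.of_lab_val (by omega)]; exact ha)]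
  have hEH : d.E ≤ H := fun e he => mem_centralizer_singleton_iff.2 (d.isE16_E.comm he (d.el_mem a))
  have hES : d.E ≤ S := fun e he => d.mem_cT (d.E_le he) (d.isE16_E.comm he (d.el_mem a))
  have ha1 : d.el a ≠ 1 := fun e => by
    have h0 : a = 0 := d.el_inj (e.trans d.el_zero.symm)
    rw [h0] at ha; exact absurd ha (by decide)
  have hmax : ∀ P : Subgroup G, IsPGroup 2 P → S ≤ P → P ≤ H → P = S := by
    intro P hP hle hPH
    refine (Subgroup.eq_of_le_of_card_ge hle ?_).symm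
    rw [h32]
    obtain ⟨g, hg⟩ := d.exists_conj_le hP
    have hsub : P.map (MulAut.conj g).toMonoidHom ≤ d.T := by rintro _ ⟨x, hx, rfl⟩; exact hg x hx
    have hdvd := Subgroup.card_dvd_of_le hsub
    rw [card_map_of_injective (MulEquiv.injective (MulAut.conj g)), d.card_T] at hdvd
    by_contra hlt
    have h64 : Nat.card P = 64 := by
      have hpow : ∀ n : ℕ, n ∣ 64 → n ≤ 32 ∨ n = 64 := fun n hn => by
        obtain ⟨j, hj, rfl⟩ := (Nat.dvd_prime_pow Nat.prime_two).1 (show n ∣ 2 ^ 6 from hn)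
        interval_cases j <;> norm_num
      exact (hpow _ hdvd).resolve_left hlt
    have heq : P.map (MulAut.conj g).toMonoidHom = d.T := Subgroup.eq_of_le_of_card_ge hsub
      (by rw [d.card_T, card_map_of_injective (MulEquiv.injective (MulAut.conj g)), h64])
    obtain ⟨w, hw⟩ := hg _ (hle (hES (d.el_mem a)))
    have hcen : ∀ y, w * y = y * w := by
      intro y
      obtain ⟨p, hp, hpe⟩ : d.hom y ∈ P.map (MulAut.conj g).toMonoidHom := heq ▸ d.mem_T y
      refine d.inj ?_
      rw [map_mul, map_mul, hw, ← hpe]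
      exact conj_comm_iff.2 (mem_centralizer_singleton_iff.1 (hPH hp)).symm
    rcases M64.center_cases hcen with e | e
    · rw [e, map_one] at hw; exact ha1 (conj_eq_one_iff.1 hw.symm)
    · exact hz ((isConj_iff.2 ⟨g, hw.symm.trans (congrArg d.hom e)⟩ : IsConj (d.el a) d.z).symm)
  obtain ⟨x₀, hx₀, hx₀a⟩ : ∃ x₀ : M64, (x₀.lab : ℕ) ∈ outer ∧ d.hom x₀ ∈ S := by
    have h := six_outer
    simp only [List.all_eq_true, List.any_eq_true] at h
    obtain ⟨x, hx, hxa⟩ := h _ ha
    have hx64 : x < 64 := (show ∀ n ∈ outer, n < 64 by decide) x hx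
    refine ⟨M64.of x, by rw [M64.of_lab_val hx64]; exact hx, d.mem_cT (d.mem_T _) ?_⟩
    rw [← map_mul, ← map_mul]
    refine congrArg d.hom (M64.cmB_iff.1 ?_).symm
    rw [M64.of_lab_val hx64, M64.of_lab_val (by omega)]
    exact hxa
  have hnot : ∀ x : M64, (x.lab : ℕ) ∈ outer → d.hom x ∈ S → ∀ h ∈ H, h * d.hom x * h⁻¹ ∉ d.E := by
    intro x hx hxS h hh hmem
    obtain ⟨c, hcH, hcC, y, hy, hye⟩ := d.fuse_into_E hEH (fun R hR hER hRH w hw hwc => by
      obtain ⟨k, hk⟩ := d.exists_conj_le hR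
      have he := d.unique16 d.isPGroup_T (d.isE16_E.conj k) d.isE16_E
        (by rintro _ ⟨e, he, rfl⟩; exact hk e (hER he)) d.E_le
      by_contra hwE
      have hwc' : IsConj d.z (k * w * k⁻¹) := hwc.trans (isConj_iff.2 ⟨k, rfl⟩)
      obtain ⟨u, hu, -, hl | hl⟩ := d.invol_cases (hk w hw) (by
        obtain ⟨q, hq⟩ := isConj_iff.1 hwc'
        rw [← hq, show q * d.z * q⁻¹ * (q * d.z * q⁻¹) = q * (d.z * d.z) * q⁻¹ by group,
          (two_iff.1 d.z_order).1]; group)
      · obtain ⟨e, he', hee⟩ : k * w * k⁻¹ ∈ d.E.map (MulAut.conj k).toMonoidHom := by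
          rw [he, ← hu]; exact d.hom_mem_E.2 hl
        exact hwE (conj_inj (show k * e * k⁻¹ = k * w * k⁻¹ from hee) ▸ he')
      · refine hz ((hgood u hl (hu ▸ hwc') (k * d.el a * k⁻¹) (he ▸ ⟨_, d.el_mem a, rfl⟩)
          (fun e => ha1 (conj_eq_one_iff.1 e)) ?_).trans (isConj_iff.2 ⟨k⁻¹, by group⟩))
        rw [hu]
        exact conj_comm_iff.2 (mem_centralizer_singleton_iff.1 (hRH hw)).symm)
      (d.z_comm (d.mem_T x)) hh hmem
    have hk1 : (QuotientGroup.mk' _ (⟨c, hcC⟩ : d.Cz)) * d.dK.el a =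
        d.dK.el a * QuotientGroup.mk' _ (⟨c, hcC⟩ : d.Cz) := by
      rw [dK_el, ← map_mul, ← map_mul]
      exact congrArg _ (Subtype.ext (mem_centralizer_singleton_iff.1 hcH))
    refine M64.outer_not_subE hx (M64.mem_subE.2 (d.dK.hom_mem_E.1 ?_))
    refine (mem_normalizer_iff.1 (hc _ hk1) _).2 ?_
    rw [dK_hom, ← map_inv, ← map_mul, ← map_mul]
    refine ⟨y, hy, ?_⟩
    show d.dK.hom y = _
    rw [dK_hom]
    exact congrArg _ (Subtype.ext hye)
  let P : Sylow 2 H :=
    { toSubgroup := S.subgroupOf H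
      isPGroup' := (d.isPGroup_T.to_le (d.cT_le_T _)).comap_subtype
      is_maximal' := fun {R} hR hle => by
        have := hmax (R.map H.subtype) (hR.map _) (fun x hx => ⟨⟨x, hSH hx⟩, hle hx, rfl⟩) (map_subtype_le _)
        exact le_antisymm (fun x hx => mem_subgroupOf.2 (this ▸ ⟨x, hx, rfl⟩)) hle }
  have hQi : (d.E.subgroupOf H).relIndex (P : Subgroup H) = 2 := by
    show (d.E.subgroupOf H).relIndex (S.subgroupOf H) = 2
    rw [relIndex_subgroupOf hSH, relIndex]
    have h2 := Subgroup.card_mul_index (d.E.subgroupOf S)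
    rw [Nat.card_congr (subgroupOfEquivOfLe hES).toEquiv, d.isE16_E.1, h32] at h2
    omega
  have hno : ∀ h : H, h * (⟨d.hom x₀, hSH hx₀a⟩ : H) * h⁻¹ ∉ d.E.subgroupOf H := fun h hh =>
    hnot x₀ hx₀ hx₀a h h.2 hh
  obtain ⟨M', hM'n, hM'i, hu, hin⟩ := H70.AltEight.transfer_strong P (d.E.subgroupOf H)
    (fun x hx => hES hx) hQi ⟨d.hom x₀, hSH hx₀a⟩
    (two_iff.2 ⟨Subtype.ext (by rw [Subgroup.coe_mul, ← map_mul, M64.outer_sq hx₀, map_one]; rfl),
      fun e => M64.outer_not_subE hx₀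
        ((d.inj ((congrArg Subtype.val e).trans (map_one _).symm)).symm ▸ M64.subE.one_mem)⟩) hno
  have hE' : d.E ≤ M'.map H.subtype := fun e he => by
    refine ⟨⟨e, hEH he⟩, hin _ (Subtype.ext (d.isE16_E.2 e he)) fun h hh => ?_, rfl⟩
    obtain ⟨x, hx, hx2, hl | hl⟩ := d.invol_cases (d.cT_le_T _ hh) (by
      show (h : G) * e * (h : G)⁻¹ * ((h : G) * e * (h : G)⁻¹) = 1
      rw [show (h : G) * e * (h : G)⁻¹ * ((h : G) * e * (h : G)⁻¹) = h * (e * e) * (h : G)⁻¹ by group,
        d.isE16_E.2 e he]; group)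
    · show H.subtype _ ∈ d.E
      rw [← hx]; exact d.hom_mem_E.2 hl
    · exfalso
      refine hnot x hl (hx ▸ hh) (h : G)⁻¹ (H.inv_mem h.2) ?_
      rw [hx]
      show (h : G)⁻¹ * ((h : G) * e * (h : G)⁻¹) * (h : G)⁻¹⁻¹ ∈ d.E
      rwa [show (h : G)⁻¹ * ((h : G) * e * (h : G)⁻¹) * (h : G)⁻¹⁻¹ = e by group]
  refine ⟨M'.map H.subtype, map_subtype_le _, hE', ?_, ?_⟩
  · intro R hR hER hRM
    refine (Subgroup.eq_of_le_of_card_ge hER ?_).symm
    rw [d.isE16_E.1]
    obtain ⟨Q, hQ⟩ := (hR.comap_subtype (K := H)).exists_le_sylow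
    obtain ⟨h, hh⟩ := MulAction.exists_smul_eq H Q P
    have hsub : (R.subgroupOf H).map (MulAut.conj h).toMonoidHom ≤ M' ⊓ (P : Subgroup H) := by
      rintro _ ⟨r, hr, rfl⟩
      obtain ⟨r', hr', he⟩ := hRM hr
      refine ⟨hM'n.conj_mem _ (Subtype.ext he ▸ hr') h, ?_⟩
      rw [← hh]
      exact smul_mem_pointwise_smul _ (MulAut.conj h) _ (hQ hr)
    have h1 : Nat.card ↥(M' ⊓ (P : Subgroup H)) ∣ 32 := by
      rw [← h32, ← Nat.card_congr (subgroupOfEquivOfLe hSH).toEquiv]
      exact Subgroup.card_dvd_of_le inf_le_right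
    have h2 : Nat.card ↥(M' ⊓ (P : Subgroup H)) ≠ 32 := fun e => hu (by
      have heq : M' ⊓ (P : Subgroup H) = P := Subgroup.eq_of_le_of_card_ge inf_le_right (le_of_eq (by
        rw [e, ← h32]; exact Nat.card_congr (subgroupOfEquivOfLe hSH).toEquiv))
      exact (inf_eq_right.1 heq) hx₀a)
    have h3 : Nat.card R ∣ Nat.card ↥(M' ⊓ (P : Subgroup H)) := by
      have := Subgroup.card_dvd_of_le hsub
      rwa [card_map_of_injective (MulEquiv.injective (MulAut.conj h)),
        Nat.card_congr (subgroupOfEquivOfLe (hRM.trans (map_subtype_le _))).toEquiv] at this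
    obtain ⟨j, hj, he⟩ := (Nat.dvd_prime_pow Nat.prime_two).1
      (show Nat.card ↥(M' ⊓ (P : Subgroup H)) ∣ 2 ^ 5 from h1)
    rw [he] at h2 h3
    refine (Nat.le_of_dvd (by positivity) h3).trans ?_
    interval_cases j <;> omega
  · rw [show (M'.map H.subtype).subgroupOf H = M' from comap_map_eq_self_of_injective H.subtype_injective M',
      hM'i]

end Emb

end Cfsg.Agent.PGroups.AltEightSylow
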