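import Cfsg.Agent.PGroups.AltEightSylow.Facts

/-!
Finite facts about linear maps of the regular module of the four-group (labels below 16).
-/

set_option autoImplicit false

namespace Cfsg.Agent.PGroups.AltEightSylow

/-- The action of the `i`-th element of the four-group. -/
def pAct (p a : ℕ) : ℕ := conjN (16 * p) a

/-- The linear map with given images of the basis `2, 3, 8, 12`. -/
def linMap (u₀ u₁ u₂ u₃ i : ℕ) : ℕ :=
  (bif i.testBit 0 then u₀ ^^^ u₁ else 0) ^^^ (bif i.testBit 1 then u₀ else 0) ^^^
    ((bif i.testBit 2 then u₂ ^^^ u₃ else 0) ^^^ (bif i.testBit 3 then u₂ else 0))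

/-- The fixed points of a nontrivial element of the four-group. -/
def fixList : ℕ → List ℕ
  | 1 => [0, 5, 1, 4]
  | 2 => [0, 5, 10, 15]
  | _ => [0, 5, 11, 14]

lemma pAct_facts : ((List.range 4).all fun p => p == 0 ||
    (List.range 16).all fun a => (pAct p a == a) == (fixList p).contains a &&
      (pAct p (pAct p a) == a) && (fixList p).contains (pAct p a ^^^ a)) = true := by
  decide +kernel

lemma pAct_comp : ((List.range 4).all fun p => (List.range 4).all fun q => (List.range 16).all fun a =>
    pAct p (pAct q a) == pAct (p ^^^ q) a && Nat.blt (pAct p a) 16 &&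
      ((p == 0) == ((List.range 16).all fun b => pAct p b == b))) = true := by
  decide +kernel

lemma pAct_val : pAct 1 2 = 3 ∧ pAct 2 2 = 8 ∧ pAct 3 2 = 12 ∧ pAct 2 4 = 1 ∧ pAct 2 5 = 5 ∧ pAct 2 1 = 4 := by
  decide +kernel

lemma fix_common : ((List.range 16).all fun a =>
    !(pAct 1 a == a && pAct 2 a == a) || a == 0 || a == 5) = true := by
  decide +kernel

lemma basis_span : ((List.range 16).all fun i => linMap 2 3 8 12 i == i) = true := by
  decide +kernel

/-- The candidates for an element of order three permuting the four-group cyclically. -/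
def cMap (u : ℕ) (i : ℕ) : ℕ := linMap u (pAct 2 u) (pAct 3 u) (pAct 1 u) i

/-- The candidates for an element commuting with the first element of the four-group. -/
def dMap (u₁ u₂ : ℕ) (i : ℕ) : ℕ := linMap u₁ (pAct 1 u₁) u₂ (pAct 1 u₂) i

/-- The conditions on the two candidates. -/
def cdB (u u₁ u₂ : ℕ) : Bool :=
  cMap u 5 == 5 && (List.range 16).all (fun i => cMap u (cMap u (cMap u i)) == i) &&
    dMap u₁ u₂ 5 == 4 && dMap u₁ u₂ 4 == 1 && dMap u₁ u₂ 1 == 5 &&
    (List.range 16).all (fun i => dMap u₁ u₂ (pAct 2 (dMap u₁ u₂ (pAct 2 i))) == i)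

/-- Their product has order seven. -/
lemma cd_seven : ((List.range 16).all fun u => (List.range 16).all fun u₁ => (List.range 16).all fun u₂ =>
    !(cdB u u₁ u₂) ||
      (let g := fun i => cMap u (dMap u₁ u₂ i)
       (List.range 16).all (fun i => g (g (g (g (g (g (g i)))))) == i) &&
         !((List.range 16).all fun i => g i == i))) = true := by
  decide +kernel

end Cfsg.Agent.PGroups.AltEightSylow
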