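import Mathlib

/-!
A table model of the Sylow 2-subgroup of the alternating group of degree eight: the elementary group of
order 16 (bits `(12)(34), (13)(24), (56)(78), (57)(68)`) extended by the four-group
`(12)(56), (15)(26)(37)(48)`. Labels are `e + 16 p`; the central involution has label 5.
-/

set_option autoImplicit false

namespace Cfsg.Agent.PGroups.AltEightSylow

/-- The action of the complement on the normal elementary subgroup. -/
def actN (p e : ℕ) : ℕ :=
  let e₁ := bif p.testBit 0 then
    e ^^^ (bif e.testBit 1 then 1 else 0) ^^^ (bif e.testBit 3 then 4 else 0) else e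
  bif p.testBit 1 then (e₁ % 4) * 4 + e₁ / 4 else e₁

/-- The product on labels. -/
def mulN (x y : ℕ) : ℕ := (x % 16 ^^^ actN (x / 16) (y % 16)) + 16 * (x / 16 ^^^ y / 16)

/-- The inverse on labels. -/
def invN (x : ℕ) : ℕ := actN (x / 16) (x % 16) + 16 * (x / 16)

/-- The conjugate `g x g⁻¹` on labels. -/
def conjN (g x : ℕ) : ℕ := mulN (mulN g x) (invN g)

/-- The model group. -/
structure M64 where
  /-- the label -/
  lab : Fin 64
deriving DecidableEq

namespace M64

lemma ext' {x y : M64} (h : (x.lab : ℕ) = y.lab) : x = y := by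
  cases x; cases y; exact congrArg M64.mk (Fin.ext h)

/-- Labels. -/
def equivFin : M64 ≃ Fin 64 := ⟨M64.lab, M64.mk, fun _ => rfl, fun _ => rfl⟩

instance : Fintype M64 := Fintype.ofEquiv (Fin 64) equivFin.symm

lemma card_eq : Nat.card M64 = 64 := by rw [Nat.card_congr equivFin, Nat.card_fin]

/-- The element with a given label. -/
def of (n : ℕ) : M64 := ⟨Fin.ofNat 64 n⟩

lemma of_lab (x : M64) : of x.lab = x := ext' (Nat.mod_eq_of_lt x.lab.isLt)

lemma actN_xor : ((List.range 4).all fun p => (List.range 16).all fun a => (List.range 16).all fun b =>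
    actN p (a ^^^ b) == (actN p a ^^^ actN p b)) = true := by
  decide +kernel

lemma actN_comp : ((List.range 4).all fun p => (List.range 4).all fun q => (List.range 16).all fun a =>
    actN p (actN q a) == actN (p ^^^ q) a && Nat.blt (actN p a) 16) = true := by
  decide +kernel

lemma mulN_lt : ((List.range 64).all fun x => (List.range 64).all fun y =>
    Nat.blt (mulN x y) 64) = true := by
  decide +kernel

lemma mulN_unit : ((List.range 64).all fun x => mulN 0 x == x && mulN x 0 == x &&
    Nat.blt (invN x) 64 && mulN (invN x) x == 0) = true := by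
  decide +kernel

lemma act_lt {p a : ℕ} (hp : p < 4) (ha : a < 16) : actN p a < 16 := by
  have h := actN_comp
  simp only [List.all_eq_true, List.mem_range, Bool.and_eq_true, Nat.blt_eq] at h
  exact (h p hp p hp a ha).2

lemma mulN_assoc {x y z : ℕ} (hx : x < 64) (hy : y < 64) (hz : z < 64) :
    mulN (mulN x y) z = mulN x (mulN y z) := by
  have h1 := actN_xor
  have h2 := actN_comp
  simp only [List.all_eq_true, List.mem_range, Bool.and_eq_true, beq_iff_eq, Nat.blt_eq] at h1 h2
  have hp : x / 16 < 4 := by omega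
  have hq : y / 16 < 4 := by omega
  have hr : z / 16 < 4 := by omega
  have ha : x % 16 < 16 := Nat.mod_lt _ (by norm_num)
  have hb : y % 16 < 16 := Nat.mod_lt _ (by norm_num)
  have hc : z % 16 < 16 := Nat.mod_lt _ (by norm_num)
  have hl : x % 16 ^^^ actN (x / 16) (y % 16) < 16 :=
    Nat.xor_lt_two_pow (n := 4) ha (act_lt hp hb)
  have hl' : y % 16 ^^^ actN (y / 16) (z % 16) < 16 :=
    Nat.xor_lt_two_pow (n := 4) hb (act_lt hq hc)
  simp only [mulN]
  rw [Nat.add_mul_mod_self_left, Nat.mod_eq_of_lt hl, Nat.add_mul_div_left _ _ (by norm_num : (0 : ℕ) < 16),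
    Nat.div_eq_of_lt hl, zero_add, Nat.add_mul_mod_self_left, Nat.mod_eq_of_lt hl',
    Nat.add_mul_div_left _ _ (by norm_num : (0 : ℕ) < 16), Nat.div_eq_of_lt hl', zero_add,
    h1 _ hp _ hb _ (act_lt hq hc), (h2 _ hp _ hq _ hc).1, Nat.xor_assoc, Nat.xor_assoc]

instance : Group M64 where
  mul x y := of (mulN x.lab y.lab)
  one := of 0
  inv x := of (invN x.lab)
  mul_assoc x y z := ext' (by
    have h := mulN_lt
    simp only [List.all_eq_true, List.mem_range, Nat.blt_eq] at h
    show mulN (mulN x.lab y.lab % 64) z.lab % 64 = mulN x.lab (mulN y.lab z.lab % 64) % 64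
    rw [Nat.mod_eq_of_lt (h _ x.lab.isLt _ y.lab.isLt), Nat.mod_eq_of_lt (h _ y.lab.isLt _ z.lab.isLt),
      mulN_assoc x.lab.isLt y.lab.isLt z.lab.isLt])
  one_mul x := ext' (by
    have h := mulN_unit
    simp only [List.all_eq_true, List.mem_range, Bool.and_eq_true, beq_iff_eq] at h
    show mulN (0 % 64) x.lab % 64 = x.lab
    rw [Nat.zero_mod, (h _ x.lab.isLt).1.1.1, Nat.mod_eq_of_lt x.lab.isLt])
  mul_one x := ext' (by
    have h := mulN_unit
    simp only [List.all_eq_true, List.mem_range, Bool.and_eq_true, beq_iff_eq] at h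
    show mulN x.lab (0 % 64) % 64 = x.lab
    rw [Nat.zero_mod, (h _ x.lab.isLt).1.1.2, Nat.mod_eq_of_lt x.lab.isLt])
  inv_mul_cancel x := ext' (by
    have h := mulN_unit
    simp only [List.all_eq_true, List.mem_range, Bool.and_eq_true, beq_iff_eq, Nat.blt_eq] at h
    show mulN (invN x.lab % 64) x.lab % 64 = 0 % 64
    rw [Nat.mod_eq_of_lt (h _ x.lab.isLt).1.2, (h _ x.lab.isLt).2])

lemma one_lab : ((1 : M64).lab : ℕ) = 0 := rfl

lemma mul_lab (x y : M64) : ((x * y).lab : ℕ) = mulN x.lab y.lab := by
  have h := mulN_lt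
  simp only [List.all_eq_true, List.mem_range, Nat.blt_eq] at h
  exact Nat.mod_eq_of_lt (h _ x.lab.isLt _ y.lab.isLt)

lemma inv_lab (x : M64) : ((x⁻¹).lab : ℕ) = invN x.lab := by
  have h := mulN_unit
  simp only [List.all_eq_true, List.mem_range, Bool.and_eq_true, beq_iff_eq, Nat.blt_eq] at h
  exact Nat.mod_eq_of_lt (h _ x.lab.isLt).1.2

lemma conj_lab (g x : M64) : ((g * x * g⁻¹).lab : ℕ) = conjN g.lab x.lab := by
  rw [mul_lab, mul_lab, inv_lab, conjN]

/-- The central involution. -/
def z : M64 := of 5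

lemma z_lab : (z.lab : ℕ) = 5 := rfl

end M64

/-- A bit mask is read as a set of labels. -/
def inMask (m : ℕ) (x : M64) : Prop := m.testBit x.lab = true

instance (m : ℕ) (x : M64) : Decidable (inMask m x) := inferInstanceAs (Decidable (_ = true))

/-- The elementary subgroup of order 16. -/
def mE : ℕ := 0xffff

/-- The extraspecial subgroup of order 32. -/
def mQ : ℕ := 0xcc33cc33cc33cc33

/-- The three normal elementary subgroups of order 8 outside `E`. -/
def mV : ℕ → ℕ
  | 0 => 0x330033
  | 1 => 0x842100008421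
  | _ => 0x4821000000004821

end Cfsg.Agent.PGroups.AltEightSylow
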