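import Cfsg.Agent.PGroups.AltEightSylow.Embed
import Cfsg.Prelude.Def_Solvable
import Cfsg.Prelude.Def_Transfer
import Cfsg.Prelude.Def_CaseTheorems

/-!
The possible shapes of a solvable group with trivial odd core, with the model as Sylow 2-subgroup and with
the central involution of the model central. In the applications this group is the centraliser of that
involution modulo its odd core.
-/

set_option autoImplicit false

namespace Cfsg.Agent.PGroups.AltEightSylow

open Subgroup

/-- The six elements of the `i`-th elementary subgroup of order 8 outside the centre. -/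
def InSix (i : ℕ) (x : M64) : Prop := inMask (mV i) x ∧ x ≠ 1 ∧ x ≠ M64.z

namespace Emb

variable {K : Type*} [Group K] (d : Emb K)

/-- The shape `E.(C₃ × ...)` with `E` normal and an element of order three on `T / E`. -/
structure ShapeE : Prop where
  card : Nat.card K = 192
  normal : ∀ k : K, k ∈ normalizer (d.E : Set K)
  e₁₂ : IsConj (d.hom (M64.of 1)) (d.hom (M64.of 10))
  e₁₃ : IsConj (d.hom (M64.of 1)) (d.hom (M64.of 11))
  v₁₂ : IsConj (d.hom (M64.of 16)) (d.hom (M64.of 32))
  v₁₃ : IsConj (d.hom (M64.of 16)) (d.hom (M64.of 48))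

/-- The shape of the centraliser in the alternating groups of degree 8 and 9. -/
structure ShapeAlt : Prop where
  card : Nat.card K = 192
  pCore_card : Nat.card (Cfsg.pCore 2 K) = 32
  pCore_mem : ∀ x : M64, d.hom x ∈ Cfsg.pCore 2 K ↔ inMask mQ x
  quot : Nonempty (K ⧸ Cfsg.pCore 2 K ≃* Equiv.Perm (Fin 3))
  fpf : ∀ X : Sylow 3 K,
    Cfsg.pCore 2 K ⊓ centralizer ((X : Subgroup K) : Set K) = zpowers d.z
  norm_E : normalizer (d.E : Set K) = d.T
  V_normal : ∀ i < 3, ∀ (k : K) (x : M64), inMask (mV i) x →
    ∃ y : M64, inMask (mV i) y ∧ k * d.hom x * k⁻¹ = d.hom y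
  six_fused : ∀ i < 3, ∀ x y : M64, InSix i x → InSix i y → IsConj (d.hom x) (d.hom y)

/-- The shape of the centraliser in the symplectic group of degree four over three elements. -/
structure ShapeSp : Prop where
  card : Nat.card K = 576
  pCore_card : Nat.card (Cfsg.pCore 2 K) = 32
  pCore_mem : ∀ x : M64, d.hom x ∈ Cfsg.pCore 2 K ↔ inMask mQ x
  norm_E_card : Nat.card (normalizer (d.E : Set K)) = 192
  six_fused : ∀ i < 3, ∀ j < 3, ∀ x y : M64, InSix i x → InSix j y → IsConj (d.hom x) (d.hom y)

/-- The statement of the local classification. -/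
def Local : Prop := Nat.card K = 64 ∨ d.ShapeE ∨ d.ShapeAlt ∨ d.ShapeSp

end Emb

end Cfsg.Agent.PGroups.AltEightSylow
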