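import Cfsg.Agent.S0205
import Cfsg.Agent.S0215
import Cfsg.Agent.Cores.PCore
import Cfsg.Agent.PGroups.SmallExtraspecial.Basic

/-!
An isolated involution: the group is the product of its odd core and the centraliser of the involution.
-/

set_option autoImplicit false
set_option linter.style.haveILetI false

namespace Cfsg.Agent.PGroups.AltEightSylow

open Subgroup PGroups.SmallExtraspecial

variable {G : Type*} [Group G] [Finite G]

/-- Glauberman: every element is the product of an element of the odd core and one centralising `u`. -/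
theorem split_of_isolated (P : Sylow 2 G) {u : G} (hu : orderOf u = 2) (huP : u ∈ (P : Subgroup G))
    (hiso : ∀ g : G, g * u * g⁻¹ ∈ (P : Subgroup G) → g * u * g⁻¹ = u) (g : G) :
    ∃ a ∈ Cfsg.oddCore G, a⁻¹ * g ∈ centralizer ({u} : Set G) := by
  obtain ⟨N, hN, hNodd, hcomm⟩ := Cfsg.Agent.S0215.result P u hu huP hiso
  obtain ⟨huu, -⟩ := two_iff.1 hu
  have hui : u⁻¹ = u := inv_eq_of_mul_eq_one_right huu
  set r := g * u * g⁻¹ * u with hr
  have hrN : r ∈ N := by
    have h := N.inv_mem (hcomm g)
    simp only [_root_.mul_inv_rev, inv_inv, hui] at h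
    rwa [← mul_assoc, ← mul_assoc] at h
  obtain ⟨j, hj⟩ := hNodd.of_dvd_nat (N.orderOf_dvd_natCard hrN)
  set a := (r ^ j)⁻¹ with ha
  refine ⟨a, Cores.le_oddCore hNodd (N.inv_mem (N.pow_mem hrN j)), ?_⟩
  have hinv : u * r * u⁻¹ = r⁻¹ := by
    rw [hui, hr]
    simp only [_root_.mul_inv_rev, inv_inv, hui]
    rw [show u * (g * u * g⁻¹ * u) * u = u * g * u * g⁻¹ * (u * u) by group, huu, mul_one]
    group
  have hua : u * r ^ j * u⁻¹ = (r ^ j)⁻¹ := by rw [← conj_pow, hinv, inv_pow]
  have key : a * u * a⁻¹ = g * u * g⁻¹ := by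
    have h1 : r * u = g * u * g⁻¹ := by rw [hr, mul_assoc, huu, mul_one]
    have h2 : u * r ^ j = (r ^ j)⁻¹ * u := mul_inv_eq_iff_eq_mul.1 hua
    rw [ha, inv_inv, mul_assoc, h2, ← mul_assoc, ← _root_.mul_inv_rev, ← pow_add, ← h1]
    congr 1
    refine inv_eq_of_mul_eq_one_right ?_
    rw [← pow_succ, show j + j + 1 = 2 * j + 1 by ring, ← hj, pow_orderOf_eq_one]
  rw [mem_centralizer_singleton_iff]
  calc a⁻¹ * g * u = a⁻¹ * (g * u * g⁻¹) * g := by group
    _ = u * (a⁻¹ * g) := by rw [← key]; group

/-- Glauberman: solvability follows from that of the centraliser of an isolated involution. -/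
theorem solvable_of_isolated (P : Sylow 2 G) {u : G} (hu : orderOf u = 2) (huP : u ∈ (P : Subgroup G))
    (hiso : ∀ g : G, g * u * g⁻¹ ∈ (P : Subgroup G) → g * u * g⁻¹ = u)
    (hC : Group.IsSolvable (centralizer ({u} : Set G))) : Group.IsSolvable G := by
  haveI := hC
  haveI : Group.IsSolvable (Cfsg.oddCore G) := Cfsg.Agent.S0205.result Cores.odd_card_oddCore
  set π := QuotientGroup.mk' (Cfsg.oddCore G)
  have hsurj : Function.Surjective (π.comp (centralizer ({u} : Set G)).subtype) := by
    intro q
    obtain ⟨g, rfl⟩ := QuotientGroup.mk'_surjective _ q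
    obtain ⟨a, ha, hag⟩ := split_of_isolated P hu huP hiso g
    refine ⟨⟨_, hag⟩, ?_⟩
    show π (a⁻¹ * g) = π g
    rw [map_mul, show π a⁻¹ = 1 from (QuotientGroup.eq_one_iff _).2 (inv_mem ha), one_mul]
  haveI := isSolvable_of_surjective hsurj
  exact (isSolvable_iff_subgroup_quotient (Cfsg.oddCore G)).2 ⟨inferInstance, inferInstance⟩

/-- Solvability of the centraliser is invariant under conjugation. -/
theorem solvable_centralizer_conj {G : Type*} [Group G] {a b : G} (h : IsConj a b)
    (ha : Group.IsSolvable (centralizer ({a} : Set G))) : Group.IsSolvable (centralizer ({b} : Set G)) := by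
  obtain ⟨g, rfl⟩ := isConj_iff.1 h
  have hmem : ∀ x ∈ centralizer ({g * a * g⁻¹} : Set G), g⁻¹ * x * g⁻¹⁻¹ ∈ centralizer ({a} : Set G) := by
    intro x hx
    refine mem_centralizer_singleton_iff.2 ?_
    have h1 := conj_comm_iff (g := g⁻¹) |>.2 (mem_centralizer_singleton_iff.1 hx)
    rwa [show g⁻¹ * (g * a * g⁻¹) * g⁻¹⁻¹ = a by group] at h1
  haveI := ha
  exact isSolvable_of_isSolvable_injective
    (f := ((MulAut.conj g⁻¹).toMonoidHom.comp (centralizer ({g * a * g⁻¹} : Set G)).subtype).codRestrict
      (centralizer ({a} : Set G)) fun x => hmem x x.2)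
    (fun x y h => Subtype.ext ((MulAut.conj g⁻¹).injective (congrArg Subtype.val h)))

/-- Solvability passes to subgroups. -/
theorem solvable_of_le {G : Type*} [Group G] {H K : Subgroup G} (hle : H ≤ K) (hK : Group.IsSolvable K) :
    Group.IsSolvable H :=
  haveI := hK
  isSolvable_of_isSolvable_injective (Subgroup.inclusion_injective hle)

/-- A group with a solvable subgroup of index two is solvable. -/
theorem solvable_of_index_two {G : Type*} [Group G] [Finite G] {M : Subgroup G} (hM : M.index = 2)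
    (h : Group.IsSolvable M) : Group.IsSolvable G := by
  haveI := Subgroup.normal_of_index_eq_two hM
  haveI := h
  haveI : Fact (Nat.Prime 2) := ⟨Nat.prime_two⟩
  haveI : IsCyclic (G ⧸ M) := isCyclic_of_prime_card (p := 2) (by rw [← index_eq_card, hM])
  haveI : Group.IsSolvable (G ⧸ M) := isSolvable_of_comm IsMulCommutative.is_comm.comm
  exact (isSolvable_iff_subgroup_quotient M).2 ⟨inferInstance, inferInstance⟩

end Cfsg.Agent.PGroups.AltEightSylow
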