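import Cfsg.Agent.PGroups.AltEightSylow.Kernel

/-!
Stabilisers and orbits in the automiser of `E` for the possible selections.
-/

set_option autoImplicit false
set_option linter.style.haveILetI false

namespace Cfsg.Agent.PGroups.AltEightSylow

open Subgroup Equiv PGroups.SmallExtraspecial

/-- The class of a label in `E`. -/
def clsOf (a : ℕ) : ℕ := ((List.range 5).find? fun i => (eCls.getD i 0).testBit a).getD 5

/-- The representatives of the three lines fixed by involutions of the complement. -/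
def eRep (i : ℕ) : ℕ := [1, 10, 11].getD i 0

/-- The union of the classes selected by `s`. -/
def clsMask (s : ℕ) : ℕ := oMask s ^^^ 32

lemma cls_pp : ∀ a b : Fin 16, a ≠ 0 → a ≠ 5 → b ≠ 0 → b ≠ 5 → clsOf a = clsOf b → ∃ p, pp p a = b := by
  decide +kernel

lemma cls_test : ((List.range 32).all fun s => (List.range 16).all fun a => a == 0 || a == 5 ||
    ((clsMask s).testBit a == s.testBit (clsOf a)) && Nat.blt (clsOf a) 5) = true := by
  decide +kernel

lemma cls_fixed : ((List.range 32).all fun s => !(clsMask s).testBit 0 && !(clsMask s).testBit 5) = true := by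
  decide +kernel

lemma five_fix : ([8, 16].all fun k => (List.range 16).any fun w => !(w == 5) && (oMask k).testBit w &&
    (oMask k).testBit (w ^^^ 1) && (List.range 16).all fun c =>
      !((oMask k).testBit c && (oMask k).testBit (c ^^^ 1)) || c == w || c == (w ^^^ 1)) = true := by
  decide +kernel

lemma five_move : ([8, 16].all fun k => (List.range 16).any fun w => !(w == 5) && (oMask k).testBit w &&
    (oMask k).testBit (w ^^^ 1) && (List.range 16).all fun c => !((oMask k).testBit c) || c == 5 ||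
      (!((oMask k).testBit (5 ^^^ c)) && clsOf (5 ^^^ c) == [4, 3].getD (k / 16) 0)) = true := by
  decide +kernel

lemma six_sel : ((List.range 32).all fun k => k == 0 || k == 8 || k == 16 || !okSel.contains k ||
    k == 7 || k == 31 || selAlt.contains k) = true := by
  decide +kernel

/-- For selections of a single line: an orbit of size dividing six through another line. -/
lemma three_orbit : ([1, 2, 4].all fun k => (List.range 3).all fun i => k.testBit i ||
    (List.range 32).all fun s => !(s.testBit i) || s == 1 <<< i ||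
      (List.range 5).any (fun c => s.testBit c && k.testBit c) ||
      !(6 % ((List.range 16).countP fun a => (clsMask s).testBit a) == 0) ||
      (((List.range 3).all fun j => j == i || !s.testBit j) && (s.testBit 3 || s.testBit 4))) = true := by
  decide +kernel

lemma three_other : ∀ k ∈ [1, 2, 4], ∀ a c : Fin 16, a.val ∈ sixL → (oMask k).testBit a.val = false →
    (oMask k).testBit c.val = true → c ≠ 5 → xr a c ≠ 0 ∧ xr a c ≠ 5 ∧
      clsOf (xr a c) < 3 ∧ clsOf (xr a c) ≠ clsOf a ∧ xr a c ≠ a := by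
  decide +kernel

lemma three_cls : ∀ k ∈ [1, 2, 4], ∀ i : Fin 16, i ≠ 0 → (oMask k).testBit i.val = false → i.val ∉ sixL →
    i ≠ 5 ∧ (clsOf i = 3 ∨ clsOf i = 4) := by
  decide +kernel

lemma three_reps : ∀ k ∈ [1, 2, 4], ∃ a b : Fin 16, a.val ∈ sixL ∧ b.val ∈ sixL ∧
    (oMask k).testBit a.val = false ∧ (oMask k).testBit b.val = false ∧ clsOf a ≠ clsOf b := by
  decide +kernel

/-- For selections of two lines: the third line and its partners. -/
lemma nine_facts : ([11, 13, 14, 19, 21, 22].all fun k => (List.range 3).any fun l => !k.testBit l &&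
    !(oMask k).testBit (eRep l) && (List.range 16).any fun w => !(w == 0) && !(oMask k).testBit w &&
      !(w == eRep l) && !(oMask k).testBit (w ^^^ eRep l) &&
      ((List.range 16).all fun c => c == 0 || (oMask k).testBit c ||
        ((c == eRep l || (oMask k).testBit (c ^^^ eRep l) || c == w || c == (w ^^^ eRep l)) &&
          (c == eRep l || c == (eRep l ^^^ 5) || clsOf c == clsOf w)))) = true := by
  decide +kernel

lemma eRep_six : ∀ i : Fin 3, eRep i ∈ sixL ∧ eRep i < 16 ∧ clsOf (eRep i) = i := by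
  decide +kernel

lemma six_cls : ∀ a : Fin 16, a.val ∈ sixL ↔ (a ≠ 0 ∧ a ≠ 5 ∧ clsOf a < 3) := by
  decide +kernel

namespace Lin

variable {X : Subgroup (Perm (Fin 16))} (L : Lin X)
include L

/-- An element of odd order fixing `a` and preserving a two-point set `{w, w + a}` fixes `w`. -/
lemma fix_pair {g : Perm (Fin 16)} (hg : g ∈ X) (ho : Odd (orderOf g)) {a w : Fin 16} (ha : g a = a)
    (hw : g w = w ∨ g w = xr w a) : g w = w := by
  refine hw.elim id fun e => odd_fix ho ?_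
  rw [e, L.add g hg, e, ha]
  refine Fin.ext ?_
  show w.val ^^^ a.val ^^^ a.val = w.val
  rw [Nat.xor_assoc, Nat.xor_self, Nat.xor_zero]

omit L in
/-- The set of conjugates of the central label is invariant. -/
lemma mask_inv {k : ℕ} (horb : ∀ i : Fin 16, (∃ g ∈ X, g 5 = i) ↔ (oMask k).testBit i.val = true)
    {g : Perm (Fin 16)} (hg : g ∈ X) (i : Fin 16) : (oMask k).testBit (g i).val = (oMask k).testBit i.val := by
  rw [Bool.eq_iff_iff, ← horb, ← horb]
  refine ⟨fun ⟨f, hf, e⟩ => ⟨g⁻¹ * f, X.mul_mem (X.inv_mem hg) hf, ?_⟩,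
    fun ⟨f, hf, e⟩ => ⟨g * f, X.mul_mem hg hf, by rw [Perm.mul_apply, e]⟩⟩
  rw [Perm.mul_apply, e, Perm.inv_def, Equiv.symm_apply_apply]

/-- A label mapped into a class is mapped onto every member of it. -/
lemma reach_cls {a b c : Fin 16} (h : ∃ g ∈ X, g a = b) (hb0 : b ≠ 0) (hb5 : b ≠ 5) (hc0 : c ≠ 0) (hc5 : c ≠ 5)
    (hbc : clsOf b = clsOf c) : ∃ g ∈ X, g a = c := by
  obtain ⟨g, hg, rfl⟩ := h
  obtain ⟨p, hp⟩ := cls_pp _ _ hb0 hb5 hc0 hc5 hbc
  exact ⟨pp p * g, X.mul_mem (L.four_le ⟨p, rfl⟩) hg, hp⟩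

/-- Some element moves a point of the pair through `a` away from the pair. -/
lemma exists_move {a : Fin 16} {k : ℕ}
    (horb : ∀ i : Fin 16, (∃ g ∈ X, g 5 = i) ↔ (oMask k).testBit i.val = true)
    {i : Fin 16} (hi : (oMask k).testBit i.val = true) (hi5 : i ≠ 5) :
    ∃ g ∈ X, (g a ≠ a ∧ g a ≠ xr a 5) ∨ (g (xr a 5) ≠ a ∧ g (xr a 5) ≠ xr a 5) := by
  obtain ⟨g, hg, rfl⟩ := (horb i).2 hi
  refine ⟨g, hg, ?_⟩
  by_contra h
  push Not at h
  have h1 : g a = a ∨ g a = xr a 5 := or_iff_not_imp_left.2 h.1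
  have h2 : g (xr a 5) = a ∨ g (xr a 5) = xr a 5 := or_iff_not_imp_left.2 h.2
  have key : ∀ u v : Fin 16, xr u v ≠ u → xr u (xr u v) = v ∧ xr (xr u v) u = v := by decide +kernel
  have hne : g a ≠ g (xr a 5) := fun e => by
    have := g.injective e
    exact (show ∀ u : Fin 16, u ≠ xr u 5 by decide +kernel) a this
  have hsum : xr (g a) (g (xr a 5)) = g 5 := by
    rw [← L.add g hg]
    exact congrArg g ((key a 5 ((show ∀ u : Fin 16, xr u 5 ≠ u by decide +kernel) a)).1)
  have hk := key a 5 ((show ∀ u : Fin 16, xr u 5 ≠ u by decide +kernel) a)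
  rcases h1 with e | e <;> rcases h2 with f | f <;> rw [e, f] at hsum hne
  · exact hne rfl
  · exact hi5 (hsum.symm.trans hk.1)
  · exact hi5 (hsum.symm.trans hk.2)
  · exact hne rfl

/-- Five conjugates: an odd element fixing the label 1 fixes another one of them. -/
theorem five_fixed {k : ℕ} (hk : k ∈ [8, 16])
    (horb : ∀ i : Fin 16, (∃ g ∈ X, g 5 = i) ↔ (oMask k).testBit i.val = true) :
    ∃ w : Fin 16, (oMask k).testBit w.val = true ∧ ∀ g ∈ X, Odd (orderOf g) → g 1 = 1 → g w = w := by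
  have h := five_fix
  simp only [List.all_eq_true, List.any_eq_true, List.mem_range, Bool.and_eq_true, Bool.or_eq_true,
    Bool.not_eq_true', beq_iff_eq, beq_eq_false_iff_ne, Bool.and_eq_false_iff] at h
  obtain ⟨w, hw, ⟨⟨_, hwO⟩, hw1⟩, hc⟩ := h k hk
  refine ⟨⟨w, hw⟩, hwO, fun g hg ho h1 => L.fix_pair hg ho h1 ?_⟩
  have hgw : (oMask k).testBit (g ⟨w, hw⟩).val = true := by rw [Lin.mask_inv horb hg]; exact hwO
  have hgw1 : (oMask k).testBit ((g ⟨w, hw⟩).val ^^^ 1) = true := by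
    have := Lin.mask_inv horb hg (xr ⟨w, hw⟩ 1)
    rw [L.add g hg, h1, xr_val, xr_val] at this
    exact this.trans hw1
  rcases hc _ (g ⟨w, hw⟩).2 with ((e | e) | e) | e
  · rw [hgw] at e; exact Bool.noConfusion e
  · rw [hgw1] at e; exact Bool.noConfusion e
  · exact Or.inl (Fin.ext e)
  · exact Or.inr (Fin.ext e)

/-- Five conjugates: the label 1 reaches every non-conjugate outside the three lines. -/
theorem five_reach {k : ℕ} (hk : k ∈ [8, 16])
    (horb : ∀ i : Fin 16, (∃ g ∈ X, g 5 = i) ↔ (oMask k).testBit i.val = true) {i : Fin 16}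
    (hi0 : i ≠ 0) (hi : ¬ (oMask k).testBit i.val = true) (hisix : i.val ∉ sixL) :
    ∃ g ∈ X, g 1 = i := by
  have h := five_move
  simp only [List.all_eq_true, List.any_eq_true, List.mem_range, Bool.and_eq_true, Bool.or_eq_true,
    Bool.not_eq_true', beq_iff_eq, beq_eq_false_iff_ne] at h
  obtain ⟨w, hw, ⟨⟨_, hwO⟩, hw1⟩, hc⟩ := h k hk
  obtain ⟨f, hf, hf5⟩ := (horb ⟨w, hw⟩).2 hwO
  have hg : f⁻¹ ⟨w, hw⟩ = 5 := by rw [← hf5, Perm.inv_def, Equiv.symm_apply_apply]
  set c := f⁻¹ (xr ⟨w, hw⟩ 1) with hcdef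
  have hcO : (oMask k).testBit c.val = true := by
    rw [hcdef, Lin.mask_inv horb (X.inv_mem hf)]; exact hw1
  have hc5 : c ≠ 5 := fun e => by
    rw [← hg, hcdef] at e
    exact (show ∀ u : Fin 16, xr u 1 ≠ u by decide +kernel) _ (f⁻¹.injective e)
  have h1 : f⁻¹ 1 = xr 5 c := by
    rw [hcdef, ← hg, ← L.add _ (X.inv_mem hf)]
    exact congrArg _ ((show ∀ u : Fin 16, (1 : Fin 16) = xr u (xr u 1) by decide +kernel) _)
  obtain ⟨hnO, hcls⟩ := ((hc c.val c.2).resolve_left (by
    rintro (e | e)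
    · rw [hcO] at e; exact Bool.noConfusion e
    · exact hc5 (Fin.ext e)))
  have hne : f⁻¹ 1 ≠ 0 := fun e => by
    rw [← L.map_zero (X.inv_mem hf)] at e; exact absurd (f⁻¹.injective e) (by decide)
  have hne5 : f⁻¹ 1 ≠ 5 := fun e => by
    rw [h1] at e
    have h5 : (oMask k).testBit 5 = true := (horb 5).1 ⟨1, X.one_mem, rfl⟩
    rw [show (5 : ℕ) ^^^ c.val = 5 from congrArg Fin.val e, h5] at hnO
    exact Bool.noConfusion hnO
  have hicls : clsOf i = [4, 3].getD (k / 16) 0 := by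
    have key : ∀ k ∈ [8, 16], ∀ i : Fin 16, i ≠ 0 → ¬ (oMask k).testBit i.val = true → i.val ∉ sixL →
        clsOf i = [4, 3].getD (k / 16) 0 := by decide +kernel
    exact key k hk i hi0 hi hisix
  refine L.reach_cls ⟨f⁻¹, X.inv_mem hf, rfl⟩ hne hne5 hi0
    (fun e => hi (by rw [e]; exact (horb 5).1 ⟨1, X.one_mem, rfl⟩)) ?_
  rw [hicls, h1, ← hcls]
  rfl

/-- One line of conjugates: the orbit through another line. -/
theorem three_data {k : ℕ} (hk : k ∈ [1, 2, 4])
    (horb : ∀ i : Fin 16, (∃ g ∈ X, g 5 = i) ↔ (oMask k).testBit i.val = true)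
    (hs : Nat.card (stab5 X) = 4) {a : Fin 16} (ha : a.val ∈ sixL) (hka : ¬ (oMask k).testBit a.val = true) :
    ∃ s < 32, s.testBit (clsOf a) = true ∧ (s.testBit 3 = true ∨ s.testBit 4 = true) ∧
      (∀ j < 3, j ≠ clsOf a → s.testBit j = false) ∧
      ∀ i : Fin 16, (∃ g ∈ X, g a = i) ↔ (clsMask s).testBit i.val = true := by
  classical
  obtain ⟨ha0, ha5, hai⟩ := (six_cls a).1 ha
  have hct := cls_test
  simp only [List.all_eq_true, List.mem_range, Bool.or_eq_true, Bool.and_eq_true, beq_iff_eq, Nat.blt_eq] at hct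
  let b : Fin 5 → Bool := fun c => decide (∃ i : Fin 16, i ≠ 0 ∧ i ≠ 5 ∧ clsOf i = c.val ∧ ∃ g ∈ X, g a = i)
  obtain ⟨s, hs32, hsb⟩ : ∃ s < 32, ∀ c : Fin 5, s.testBit c.val = b c := by
    have key : ∀ b0 b1 b2 b3 b4 : Bool, ∃ k < 32, k.testBit 0 = b0 ∧ k.testBit 1 = b1 ∧ k.testBit 2 = b2 ∧
        k.testBit 3 = b3 ∧ k.testBit 4 = b4 := by decide +kernel
    obtain ⟨k, hk, h0, h1, h2, h3, h4⟩ := key (b 0) (b 1) (b 2) (b 3) (b 4)
    refine ⟨k, hk, fun i => ?_⟩
    fin_cases i <;> assumption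
  have hno5 : ¬ ∃ g ∈ X, g a = 5 := by
    rintro ⟨g, hg, e⟩
    refine hka ?_
    rw [← Lin.mask_inv horb hg, e]
    exact (horb 5).1 ⟨1, X.one_mem, rfl⟩
  have hno0 : ¬ ∃ g ∈ X, g a = 0 := by
    rintro ⟨g, hg, e⟩
    exact ha0 (g.injective (e.trans (L.map_zero hg).symm))
  have hO : ∀ i : Fin 16, (∃ g ∈ X, g a = i) ↔ (clsMask s).testBit i.val = true := by
    intro i
    have hcf := cls_fixed
    simp only [List.all_eq_true, List.mem_range, Bool.and_eq_true, Bool.not_eq_true'] at hcf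
    by_cases h0 : i = 0
    · subst h0; rw [show ((0 : Fin 16) : ℕ) = 0 from rfl, (hcf s hs32).1]
      exact iff_of_false hno0 Bool.false_ne_true
    by_cases h5 : i = 5
    · subst h5; rw [show ((5 : Fin 16) : ℕ) = 5 from rfl, (hcf s hs32).2]
      exact iff_of_false hno5 Bool.false_ne_true
    have hct' := (hct s hs32 i.val i.2).resolve_left (by
      rintro (e | e)
      exacts [h0 (Fin.ext e), h5 (Fin.ext e)])
    rw [hct'.1, hsb ⟨_, hct'.2⟩]
    simp only [b, decide_eq_true_eq]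
    exact ⟨fun h => ⟨i, h0, h5, rfl, h⟩, fun ⟨j, j0, j5, hj, h⟩ => L.reach_cls h j0 j5 h0 h5 hj⟩
  have hsa : s.testBit (clsOf a) = true := by
    rw [hsb ⟨clsOf a, by omega⟩]
    simp only [b, decide_eq_true_eq]
    exact ⟨a, ha0, ha5, rfl, 1, X.one_mem, rfl⟩
  have hnk : ∀ c < 5, k.testBit c = true → s.testBit c = false := by
    intro c hc hkc
    rw [hsb ⟨c, hc⟩]
    simp only [b, decide_eq_false_iff_not]
    rintro ⟨i, i0, i5, hi, g, hg, e⟩
    refine hka ?_
    rw [← Lin.mask_inv horb hg, e]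
    have hk32 : k < 32 := (show ∀ n ∈ [1, 2, 4], n < 32 by decide) k hk
    have hmo : ∀ k < 32, ∀ i : Fin 16, i ≠ 5 → (oMask k).testBit i.val = (clsMask k).testBit i.val := by
      decide +kernel
    rw [hmo k hk32 i i5, ((hct k hk32 i.val i.2).resolve_left (by
      rintro (e | e)
      exacts [i0 (Fin.ext e), i5 (Fin.ext e)])).1, hi, hkc]
  -- the orbit has size dividing six
  have hdvd : ((List.range 16).countP fun j => (clsMask s).testBit j) ∣ 6 := by
    haveI : Fintype X := Fintype.ofFinite X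
    have hX : Nat.card X = 12 := by
      rw [L.card_eq horb, hs]
      have key : ∀ k ∈ [1, 2, 4], selCard k * 4 = 12 := by decide +kernel
      exact key k hk
    have h2 : 2 ∣ Nat.card (MulAction.stabilizer X a) := by
      obtain ⟨p, hp0, hp⟩ : ∃ p : Fin 4, p ≠ 0 ∧ pp p a = a :=
        (show ∀ a : Fin 16, a.val ∈ sixL → ∃ p : Fin 4, p ≠ 0 ∧ pp p a = a by decide +kernel) a ha
      have hmem : (⟨pp p, L.four_le ⟨p, rfl⟩⟩ : X) ∈ MulAction.stabilizer X a := hp
      have hord : orderOf (⟨pp p, L.four_le ⟨p, rfl⟩⟩ : X) = 2 := two_iff.2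
        ⟨Subtype.ext (pp_sq p), fun e => hp0 (pp_inj ((congrArg Subtype.val e).trans pp_zero.symm))⟩
      exact hord ▸ Subgroup.orderOf_dvd_natCard _ hmem
    have horbit : Nat.card (MulAction.orbit X a) = (List.range 16).countP fun j => (clsMask s).testBit j := by
      have : (MulAction.orbit X a) = ↑((Finset.univ : Finset (Fin 16)).filter
          fun i => (clsMask s).testBit i.val = true) := by
        ext i
        simp only [Finset.coe_filter, Finset.mem_univ, true_and, Set.mem_setOf_eq, ← hO]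
        exact ⟨fun ⟨g, hg⟩ => ⟨g.1, g.2, hg⟩, fun ⟨g, hg, e⟩ => ⟨⟨g, hg⟩, e⟩⟩
      rw [this, Nat.card_coe_set_eq, Set.ncard_coe_finset, List.countP_eq_length_filter,
        ← List.toFinset_card_of_nodup (List.nodup_range.filter _), ← Finset.card_map Fin.valEmbedding]
      congr 1
      ext j
      simp only [List.mem_toFinset, List.mem_filter, List.mem_range, Finset.mem_map, Finset.mem_filter,
        Finset.mem_univ, true_and, Fin.valEmbedding_apply]
      exact ⟨fun ⟨c, hc, e⟩ => e ▸ ⟨c.2, hc⟩, fun ⟨h1, h2⟩ => ⟨⟨j, h1⟩, h2, rfl⟩⟩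
    obtain ⟨t, ht⟩ := h2
    have hh := MulAction.card_orbit_mul_card_stabilizer_eq_card_group X a
    rw [← Nat.card_eq_fintype_card (α := X), hX] at hh
    refine ⟨t, ?_⟩
    rw [← horbit]
    have hh' : Nat.card (MulAction.orbit X a) * Nat.card (MulAction.stabilizer X a) = 12 := by
      simpa only [Nat.card_eq_fintype_card] using hh
    rw [ht] at hh'
    nlinarith
  have hne : s ≠ 1 <<< clsOf a := by
    intro e
    obtain ⟨i, hi, hi5⟩ : ∃ i : Fin 16, (oMask k).testBit i.val = true ∧ i ≠ 5 :=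
      (show ∀ k ∈ [1, 2, 4], ∃ i : Fin 16, (oMask k).testBit i.val = true ∧ i ≠ 5 by decide +kernel) k hk
    obtain ⟨g, hg, hmove⟩ := L.exists_move (a := a) horb hi hi5
    have hpair : ∀ a : Fin 16, a.val ∈ sixL → ∀ j : Fin 16,
        (clsMask (1 <<< clsOf a)).testBit j.val = true → j = a ∨ j = xr a 5 := by decide +kernel
    have hb : ∃ f ∈ X, f a = xr a 5 := by
      obtain ⟨h1, h2, h3⟩ := (show ∀ a : Fin 16, a.val ∈ sixL →
        xr a 5 ≠ 0 ∧ xr a 5 ≠ 5 ∧ clsOf a = clsOf (xr a 5) by decide +kernel) a ha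
      exact L.reach_cls ⟨1, X.one_mem, rfl⟩ ha0 ha5 h1 h2 h3
    rcases hmove with ⟨n1, n2⟩ | ⟨n1, n2⟩
    · exact (hpair a ha _ (e ▸ (hO _).1 ⟨g, hg, rfl⟩)).elim n1 n2
    · obtain ⟨f, hf, hfa⟩ := hb
      exact (hpair a ha _ (e ▸ (hO _).1 ⟨g * f, X.mul_mem hg hf, by rw [Perm.mul_apply, hfa]⟩)).elim n1 n2
  have h3 := three_orbit
  simp only [List.all_eq_true, List.any_eq_true, List.mem_range, Bool.or_eq_true, Bool.and_eq_true,
    Bool.not_eq_true', beq_iff_eq, beq_eq_false_iff_ne] at h3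
  have hkai : ¬ k.testBit (clsOf a) = true := fun e => by
    have := hnk _ (by omega) e
    rw [hsa] at this; exact Bool.noConfusion this
  rcases (h3 k hk (clsOf a) hai).resolve_left hkai s hs32 with (((e | e) | e) | e) | e
  · rw [hsa] at e; exact Bool.noConfusion e
  · exact absurd e hne
  · obtain ⟨c, hc, h1, h2⟩ := e
    rw [hnk c hc h2] at h1; exact Bool.noConfusion h1
  · exact absurd (Nat.mod_eq_zero_of_dvd hdvd) e
  · exact ⟨s, hs32, hsa, e.2, fun j hj hne => (e.1 j hj).resolve_left hne, hO⟩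

/-- One line of conjugates: an odd element fixing a point of another line fixes the central label. -/
theorem three_fixed {k : ℕ} (hk : k ∈ [1, 2, 4])
    (horb : ∀ i : Fin 16, (∃ g ∈ X, g 5 = i) ↔ (oMask k).testBit i.val = true)
    (hs : Nat.card (stab5 X) = 4) {a : Fin 16} (ha : a.val ∈ sixL) (hka : (oMask k).testBit a.val = false)
    {g : Perm (Fin 16)} (hg : g ∈ X) (hga : g a = a) : g 5 = 5 := by
  obtain ⟨s, hs32, hsa, -, hso, hO⟩ := L.three_data hk horb hs ha (by rw [hka]; exact Bool.false_ne_true)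
  by_contra h5
  have hc : (oMask k).testBit (g 5).val = true := (horb _).1 ⟨g, hg, rfl⟩
  obtain ⟨h0, hn5, hlt, hne, -⟩ := three_other k hk a (g 5) ha hka hc h5
  obtain ⟨h1, h2, h3⟩ := (show ∀ a : Fin 16, a.val ∈ sixL →
    xr a 5 ≠ 0 ∧ xr a 5 ≠ 5 ∧ clsOf a = clsOf (xr a 5) by decide +kernel) a ha
  obtain ⟨ha0, ha5, -⟩ := (six_cls a).1 ha
  obtain ⟨f, hf, hfa⟩ := L.reach_cls (a := a) ⟨1, X.one_mem, rfl⟩ ha0 ha5 h1 h2 h3
  have hmem := (hO _).1 ⟨g * f, X.mul_mem hg hf, by rw [Perm.mul_apply, hfa, L.add g hg, hga]⟩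
  have hct := cls_test
  simp only [List.all_eq_true, List.mem_range, Bool.or_eq_true, Bool.and_eq_true, beq_iff_eq, Nat.blt_eq] at hct
  rw [((hct s hs32 _ (xr a (g 5)).2).resolve_left (by
    rintro (e | e)
    exacts [h0 (Fin.ext e), hn5 (Fin.ext e)])).1, hso _ hlt hne] at hmem
  exact Bool.noConfusion hmem

/-- One line of conjugates: every other point outside the three lines is reached from them. -/
theorem three_reach {k : ℕ} (hk : k ∈ [1, 2, 4])
    (horb : ∀ i : Fin 16, (∃ g ∈ X, g 5 = i) ↔ (oMask k).testBit i.val = true)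
    (hs : Nat.card (stab5 X) = 4) {i : Fin 16} (hi0 : i ≠ 0) (hi : (oMask k).testBit i.val = false)
    (hisix : i.val ∉ sixL) :
    ∃ a : Fin 16, a.val ∈ sixL ∧ (oMask k).testBit a.val = false ∧ ∃ g ∈ X, g a = i := by
  obtain ⟨hi5, hcls⟩ := three_cls k hk i hi0 hi hisix
  obtain ⟨a, b, ha, hb, hka, hkb, hab⟩ := three_reps k hk
  obtain ⟨s, hs32, hsa, hs34, hso, hO⟩ := L.three_data hk horb hs ha (by rw [hka]; exact Bool.false_ne_true)
  obtain ⟨t, ht32, htb, ht34, hto, hP⟩ := L.three_data hk horb hs hb (by rw [hkb]; exact Bool.false_ne_true)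
  have hct := cls_test
  simp only [List.all_eq_true, List.mem_range, Bool.or_eq_true, Bool.and_eq_true, beq_iff_eq, Nat.blt_eq] at hct
  have hmem : ∀ r < 32, ∀ j : Fin 16, j ≠ 0 → j ≠ 5 → r.testBit (clsOf j) = true →
      (clsMask r).testBit j.val = true := fun r hr j j0 j5 h => by
    rw [((hct r hr j.val j.2).resolve_left (by
      rintro (e | e)
      exacts [j0 (Fin.ext e), j5 (Fin.ext e)])).1, h]
  by_cases h1 : s.testBit (clsOf i) = true
  · exact ⟨a, ha, hka, (hO i).2 (hmem s hs32 i hi0 hi5 h1)⟩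
  by_cases h2 : t.testBit (clsOf i) = true
  · exact ⟨b, hb, hkb, (hP i).2 (hmem t ht32 i hi0 hi5 h2)⟩
  exfalso
  -- both orbits contain the other class, hence each other
  obtain ⟨j, hjs, hjt⟩ : ∃ j : Fin 16, (clsMask s).testBit j.val = true ∧ (clsMask t).testBit j.val = true := by
    rcases hcls with e | e <;> rw [e] at h1 h2
    · refine ⟨6, hmem s hs32 6 (by decide) (by decide) ?_, hmem t ht32 6 (by decide) (by decide) ?_⟩
      · exact hs34.resolve_left h1
      · exact ht34.resolve_left h2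
    · refine ⟨2, hmem s hs32 2 (by decide) (by decide) ?_, hmem t ht32 2 (by decide) (by decide) ?_⟩
      · exact hs34.resolve_right h1
      · exact ht34.resolve_right h2
  obtain ⟨g, hg, hge⟩ := (hO j).2 hjs
  obtain ⟨f, hf, hfe⟩ := (hP j).2 hjt
  obtain ⟨hb0, hb5, hb3⟩ := (six_cls b).1 hb
  have h := (hO b).1 ⟨f⁻¹ * g, X.mul_mem (X.inv_mem hf) hg, by
    rw [Perm.mul_apply, hge, ← hfe, Perm.inv_def, Equiv.symm_apply_apply]⟩
  rw [((hct s hs32 b.val b.2).resolve_left (by
    rintro (e | e)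
    exacts [hb0 (Fin.ext e), hb5 (Fin.ext e)])).1, hso _ hb3 (Ne.symm hab)] at h
  exact Bool.noConfusion h

/-- Two lines of conjugates: the third line, a fixed partner and transitivity on the other six points. -/
theorem nine_data {k : ℕ} (hk : k ∈ [11, 13, 14, 19, 21, 22])
    (horb : ∀ i : Fin 16, (∃ g ∈ X, g 5 = i) ↔ (oMask k).testBit i.val = true) :
    ∃ a w : Fin 16, a.val ∈ sixL ∧ (oMask k).testBit a.val = false ∧ w ≠ 0 ∧ w ≠ a ∧
      (oMask k).testBit w.val = false ∧ (oMask k).testBit (xr w a).val = false ∧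
      (∀ g ∈ X, Odd (orderOf g) → g a = a → g w = w) ∧
      ∀ i : Fin 16, i ≠ 0 → (oMask k).testBit i.val = false → ∃ g ∈ X, g a = i := by
  have h := nine_facts
  simp only [List.all_eq_true, List.any_eq_true, List.mem_range, Bool.and_eq_true, Bool.or_eq_true,
    Bool.not_eq_true', beq_iff_eq, beq_eq_false_iff_ne] at h
  obtain ⟨l, hl, ⟨-, hla⟩, w, hw, ⟨⟨⟨hw0, hwO⟩, hwa⟩, hwaO⟩, hc⟩ := h k hk
  obtain ⟨hsix, hlt, -⟩ := eRep_six ⟨l, hl⟩
  let a : Fin 16 := ⟨eRep l, hlt⟩
  obtain ⟨ha0, ha5, -⟩ := (six_cls a).1 hsix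
  refine ⟨a, ⟨w, hw⟩, hsix, hla, fun e => hw0 (congrArg Fin.val e), fun e => hwa (congrArg Fin.val e), hwO,
    hwaO, ?_, ?_⟩
  · intro g hg ho hga
    refine L.fix_pair hg ho hga ?_
    have h1 : (oMask k).testBit (g ⟨w, hw⟩).val = false := by rw [Lin.mask_inv horb hg]; exact hwO
    have h2 : (oMask k).testBit ((g ⟨w, hw⟩).val ^^^ eRep l) = false := by
      have := Lin.mask_inv horb hg (xr ⟨w, hw⟩ a)
      rw [L.add g hg, hga, xr_val, xr_val] at this
      exact this.trans hwaO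
    rcases hc _ (g ⟨w, hw⟩).2 with (e | e) | ⟨((e | e) | e) | e, -⟩
    · exact absurd (g.injective ((Fin.ext e : g ⟨w, hw⟩ = 0).trans (L.map_zero hg).symm))
        fun e' => hw0 (congrArg Fin.val e')
    · rw [h1] at e; exact Bool.noConfusion e
    · exact absurd (g.injective ((Fin.ext e : g ⟨w, hw⟩ = a).trans hga.symm))
        fun e' => hwa (congrArg Fin.val e')
    · rw [h2] at e; exact Bool.noConfusion e
    · exact Or.inl (Fin.ext e)
    · exact Or.inr (Fin.ext e)
  intro i hi0 hi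
  have hcls : ∀ j : Fin 16, j ≠ 0 → (oMask k).testBit j.val = false → j ≠ a → j ≠ xr a 5 →
      clsOf j = clsOf w := fun j j0 jO ja ja5 => by
    rcases ((hc j.val j.2).resolve_left (by
      rintro (e | e)
      · exact j0 (Fin.ext e)
      · rw [jO] at e; exact Bool.noConfusion e)).2 with (e | e) | e
    exacts [absurd (Fin.ext e) ja, absurd (Fin.ext e) ja5, e]
  obtain ⟨h1, h2, h3⟩ := (show ∀ a : Fin 16, a.val ∈ sixL →
    xr a 5 ≠ 0 ∧ xr a 5 ≠ 5 ∧ clsOf a = clsOf (xr a 5) by decide +kernel) a hsix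
  obtain ⟨f, hf, hfa⟩ := L.reach_cls (a := a) ⟨1, X.one_mem, rfl⟩ ha0 ha5 h1 h2 h3
  by_cases hia : i = a
  · exact ⟨1, X.one_mem, hia.symm⟩
  by_cases hia5 : i = xr a 5
  · exact ⟨f, hf, hia5 ▸ hfa⟩
  obtain ⟨c, hcO, hc5⟩ : ∃ c : Fin 16, (oMask k).testBit c.val = true ∧ c ≠ 5 :=
    (show ∀ k ∈ [11, 13, 14, 19, 21, 22], ∃ c : Fin 16, (oMask k).testBit c.val = true ∧ c ≠ 5 by
      decide +kernel) k hk
  obtain ⟨g, hg, hmove⟩ := L.exists_move (a := a) horb hcO hc5
  have hi5 : i ≠ 5 := fun e => by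
    rw [e, (horb 5).1 ⟨1, X.one_mem, rfl⟩] at hi; exact Bool.noConfusion hi
  have key : ∀ p : Perm (Fin 16), p ∈ X → p a ≠ a → p a ≠ xr a 5 → ∃ g ∈ X, g a = i := by
    intro p hp n1 n2
    have hpO : (oMask k).testBit (p a).val = false := by rw [Lin.mask_inv horb hp]; exact hla
    have hp0 : p a ≠ 0 := fun e => ha0 (p.injective (e.trans (L.map_zero hp).symm))
    have hp5 : p a ≠ 5 := fun e => by
      rw [e, (horb 5).1 ⟨1, X.one_mem, rfl⟩] at hpO; exact Bool.noConfusion hpO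
    exact L.reach_cls ⟨p, hp, rfl⟩ hp0 hp5 hi0 hi5
      ((hcls _ hp0 hpO n1 n2).trans (hcls i hi0 hi hia hia5).symm)
  rcases hmove with ⟨n1, n2⟩ | ⟨n1, n2⟩
  · exact key g hg n1 n2
  · exact key (g * f) (X.mul_mem hg hf) (by rwa [Perm.mul_apply, hfa]) (by rwa [Perm.mul_apply, hfa])

end Lin

end Cfsg.Agent.PGroups.AltEightSylow
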